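import Cfsg.Agent.Lib.Core.Layer
import Cfsg.Agent.Lib.Coprime.Generation
import Cfsg.Prelude.Def_LocalEven

/-!
An elementary abelian `2`-group not centralizing the generalized Fitting subgroup: a small-index
subgroup centralizing an element of prime order inverted by one of its members.
-/

set_option autoImplicit false

namespace Cfsg.Lib.Local.TriBound

open Cfsg.Lib.Core

/-- The conditions on a non-abelian simple group used for the bound. -/
def Good (P : Type*) [Group P] : Prop :=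
  ∃ p D s : ℕ, p.Prime ∧ p ≠ 2 ∧ (∀ k, 0 < k → p ∣ 2 ^ k - 1 → D ≤ k) ∧
    (∀ n : ℕ, 2 ^ D ≤ (2 ^ n) ^ 2 → s ^ 2 ≤ 2 ^ n) ∧
    (∀ u : P, u * u = 1 → u ≠ 1 → ∃ c : P, p ∣ orderOf (u * (c⁻¹ * u * c))) ∧
    (∀ Q : Subgroup P, Cfsg.IsElementaryAbelian 2 Q → Nat.card Q ≤ s) ∧
    (∀ β : MulAut P, β * β = 1 →
      (∃ u : P, β = MulAut.conj u) ∨ ∃ u : P, u ^ 3 = 1 ∧ u ≠ 1 ∧ β u = u⁻¹)

/-- A step of the triangular system. -/
def Stage {Γ : Type*} [Group Γ] (A : Subgroup Γ) : Prop :=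
  ∃ (B : Subgroup Γ) (x a : Γ) (p D s : ℕ), B ≤ A ∧ a ∈ A ∧ p.Prime ∧ p ≠ 2 ∧
    (∀ k, 0 < k → p ∣ 2 ^ k - 1 → D ≤ k) ∧ (∀ n : ℕ, 2 ^ D ≤ (2 ^ n) ^ 2 → s ^ 2 ≤ 2 ^ n) ∧
    Nat.card A ≤ Nat.card B * s ∧ orderOf x = p ∧ a * x * a⁻¹ = x⁻¹ ∧ ∀ b ∈ B, x * b = b * x

theorem hom_trivial_of_perfect {X Y : Type*} [Group X] [Group Y] (hX : Group.IsPerfect X)
    (f : X →* Y) (hf : ∀ a b, f a * f b = f b * f a) : ∀ x, f x = 1 := by
  intro x
  have hle : commutator X ≤ f.ker := by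
    rw [commutator_def, Subgroup.commutator_le]
    intro a _ b _
    rw [MonoidHom.mem_ker, map_commutatorElement, commutatorElement_eq_one_iff_mul_comm]
    exact hf a b
  rw [Group.isPerfect_def.1 hX] at hle
  exact hle (Subgroup.mem_top x)

theorem mem_center_of_commutators {X : Type*} [Group X] (hX : Group.IsPerfect X) (z : X)
    (h : ∀ w, z * w * z⁻¹ * w⁻¹ ∈ Subgroup.center X) : z ∈ Subgroup.center X := by
  let f : X →* ↥(Subgroup.center X) := MonoidHom.mk' (fun w => ⟨z * w * z⁻¹ * w⁻¹, h w⟩) (by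
    intro v w
    apply Subtype.ext
    show z * (v * w) * z⁻¹ * (v * w)⁻¹ = z * v * z⁻¹ * v⁻¹ * (z * w * z⁻¹ * w⁻¹)
    have hc : v⁻¹ * (z * w * z⁻¹ * w⁻¹) = (z * w * z⁻¹ * w⁻¹) * v⁻¹ :=
      Subgroup.mem_center_iff.1 (h w) _
    calc z * (v * w) * z⁻¹ * (v * w)⁻¹ = z * v * z⁻¹ * ((z * w * z⁻¹ * w⁻¹) * v⁻¹) := by group
      _ = z * v * z⁻¹ * (v⁻¹ * (z * w * z⁻¹ * w⁻¹)) := by rw [hc]
      _ = z * v * z⁻¹ * v⁻¹ * (z * w * z⁻¹ * w⁻¹) := by group)
  have hf := hom_trivial_of_perfect hX f fun a b =>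
    Subtype.ext (Subgroup.mem_center_iff.1 (f b).2 _)
  rw [Subgroup.mem_center_iff]
  intro w
  have hw : z * w * z⁻¹ * w⁻¹ = 1 := congrArg Subtype.val (hf w)
  calc w * z = (z * w * z⁻¹ * w⁻¹) * (w * z) := by rw [hw, one_mul]
    _ = z * w := by group

theorem aut_eq_of_eq_mod_center {X : Type*} [Group X] (hX : Group.IsPerfect X) (α β : MulAut X)
    (h : ∀ x, (β x)⁻¹ * α x ∈ Subgroup.center X) : α = β := by
  let f : X →* ↥(Subgroup.center X) := MonoidHom.mk' (fun x => ⟨(β x)⁻¹ * α x, h x⟩) (by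
    intro v w
    apply Subtype.ext
    show (β (v * w))⁻¹ * α (v * w) = (β v)⁻¹ * α v * ((β w)⁻¹ * α w)
    rw [map_mul, map_mul, mul_inv_rev]
    have hc := Subgroup.mem_center_iff.1 (h v) (β w)⁻¹
    calc (β w)⁻¹ * (β v)⁻¹ * (α v * α w) = (β w)⁻¹ * ((β v)⁻¹ * α v) * α w := by group
      _ = (β v)⁻¹ * α v * (β w)⁻¹ * α w := by rw [hc]
      _ = _ := by group)
  have hf := hom_trivial_of_perfect hX f fun a b =>
    Subtype.ext (Subgroup.mem_center_iff.1 (f b).2 _)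
  ext x
  have hx : (β x)⁻¹ * α x = 1 := congrArg Subtype.val (hf x)
  exact (inv_mul_eq_one.1 hx).symm

section Main

variable {Γ : Type*} [Group Γ]

theorem inv_conj_pow {x a : Γ} (h : a * x * a⁻¹ = x⁻¹) (n : ℕ) : a * x ^ n * a⁻¹ = (x ^ n)⁻¹ := by
  rw [← conj_pow, h, inv_pow]

/-- An inverted element of order divisible by `p` has an inverted power of order `p`. -/
theorem exists_pow_prime [Finite Γ] {x a : Γ} (h : a * x * a⁻¹ = x⁻¹) {p : ℕ} (hd : p ∣ orderOf x) :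
    ∃ n : ℕ, orderOf (x ^ n) = p ∧ a * x ^ n * a⁻¹ = (x ^ n)⁻¹ := by
  refine ⟨orderOf x / p, ?_, inv_conj_pow h _⟩
  rw [orderOf_pow_orderOf_div (orderOf_pos x).ne' hd]

theorem elementary_comm {A : Subgroup Γ} (hA : Cfsg.IsElementaryAbelian 2 A) {u v : Γ} (hu : u ∈ A)
    (hv : v ∈ A) : u * v = v * u :=
  congrArg Subtype.val (hA.1.is_comm.comm ⟨u, hu⟩ ⟨v, hv⟩)

theorem elementary_inv {A : Subgroup Γ} (hA : Cfsg.IsElementaryAbelian 2 A) {u : Γ} (hu : u ∈ A) :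
    u⁻¹ = u :=
  inv_eq_of_mul_eq_one_right (by rw [← pow_two]; exact hA.2 u hu)

variable [Finite Γ]

theorem card_le_mul_of_forall {A B C : Subgroup Γ} (h : ∀ z ∈ A, ∃ b ∈ B, ∃ c ∈ C, z = b * c) :
    Nat.card A ≤ Nat.card B * Nat.card C := by
  rw [← Nat.card_prod]
  choose fb hb fc hc he using h
  refine Nat.card_le_card_of_injective
    (fun z : ↥A => ((⟨fb z.1 z.2, hb z.1 z.2⟩ : ↥B), (⟨fc z.1 z.2, hc z.1 z.2⟩ : ↥C))) ?_
  intro u v e
  rw [Prod.mk.injEq, Subtype.mk.injEq, Subtype.mk.injEq] at e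
  apply Subtype.ext
  rw [he u.1 u.2, he v.1 v.2, e.1, e.2]

theorem mem_sup_elementary {A B C : Subgroup Γ} (hA : Cfsg.IsElementaryAbelian 2 A) (hB : B ≤ A)
    (hC : C ≤ A) {z : Γ} (hz : z ∈ B ⊔ C) : ∃ b ∈ B, ∃ c ∈ C, z = b * c := by
  rw [Subgroup.sup_eq_closure] at hz
  induction hz using Subgroup.closure_induction with
  | mem z hz =>
    rcases hz with hz | hz
    · exact ⟨z, hz, 1, one_mem _, (mul_one z).symm⟩
    · exact ⟨1, one_mem _, z, hz, (one_mul z).symm⟩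
  | one => exact ⟨1, one_mem _, 1, one_mem _, (one_mul 1).symm⟩
  | mul u v _ _ hu hv =>
    obtain ⟨b, hb, c, hc, rfl⟩ := hu
    obtain ⟨b', hb', c', hc', rfl⟩ := hv
    refine ⟨b * b', mul_mem hb hb', c * c', mul_mem hc hc', ?_⟩
    calc b * c * (b' * c') = b * (c * b') * c' := by group
      _ = b * (b' * c) * c' := by rw [elementary_comm hA (hC hc) (hB hb')]
      _ = b * b' * (c * c') := by group
  | inv u _ hu =>
    obtain ⟨b, hb, c, hc, rfl⟩ := hu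
    refine ⟨b⁻¹, inv_mem hb, c⁻¹, inv_mem hc, ?_⟩
    rw [mul_inv_rev, elementary_comm hA (inv_mem (hC hc)) (inv_mem (hB hb))]

theorem card_sup_zpowers_le {A B : Subgroup Γ} (hA : Cfsg.IsElementaryAbelian 2 A) (hB : B ≤ A)
    {a : Γ} (ha : a ∈ A) : Nat.card ↥(B ⊔ Subgroup.zpowers a) ≤ Nat.card B * 2 :=
  calc Nat.card ↥(B ⊔ Subgroup.zpowers a) ≤ Nat.card B * Nat.card ↥(Subgroup.zpowers a) :=
        card_le_mul_of_forall fun z hz =>
          mem_sup_elementary hA hB ((Subgroup.zpowers_le).2 ha) hz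
    _ ≤ Nat.card B * 2 := Nat.mul_le_mul_left _ (by
        rw [Nat.card_zpowers]
        exact Nat.le_of_dvd two_pos (orderOf_dvd_of_pow_eq_one (hA.2 a ha)))

theorem stage_hyperplane
    (h3 : ∀ x a : Γ, x ^ 3 = 1 → a * a = 1 → a * x * a⁻¹ = x⁻¹ → x = 1)
    {A B : Subgroup Γ} (hA : Cfsg.IsElementaryAbelian 2 A) (hB : B ≤ A) {a y : Γ} (ha : a ∈ A)
    (hcard : Nat.card A ≤ Nat.card B * 2) (hinv : a * y * a⁻¹ = y⁻¹) {q : ℕ} (hq : q.Prime)
    (hq2 : q ≠ 2) (hd : q ∣ orderOf y) (hc : ∀ b ∈ B, y * b = b * y) : Stage A := by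
  obtain ⟨n, hn, hninv⟩ := exists_pow_prime hinv hd
  refine ⟨B, y ^ n, a, q, 3, 2, hB, ha, hq, hq2, ?_, ?_, hcard, hn, hninv,
    fun b hb => ((show Commute y b from hc b hb).pow_left n).eq⟩
  · intro k hk hdvd
    by_contra hlt
    obtain rfl | rfl : k = 1 ∨ k = 2 := by omega
    · exact hq.one_lt.ne' (Nat.dvd_one.1 (by simpa using hdvd))
    · have h3' : q = 3 := (Nat.prime_dvd_prime_iff_eq hq Nat.prime_three).1 (by simpa using hdvd)
      have h1 := h3 (y ^ n) a (by rw [← h3', ← hn, pow_orderOf_eq_one])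
        (by rw [← pow_two]; exact hA.2 a ha) hninv
      rw [h1, orderOf_one] at hn
      exact hq.one_lt.ne hn
  · intro k hk
    by_contra hlt
    obtain rfl | rfl : k = 0 ∨ k = 1 := by
      rcases k with - | - | k
      · exact Or.inl rfl
      · exact Or.inr rfl
      · exfalso
        refine hlt ?_
        calc (2 : ℕ) ^ 2 = 2 ^ 2 := rfl
          _ ≤ 2 ^ (k + 1 + 1) := Nat.pow_le_pow_right two_pos (by omega)
    · norm_num at hk
    · norm_num at hk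

theorem stage_solvable
    (h3 : ∀ x a : Γ, x ^ 3 = 1 → a * a = 1 → a * x * a⁻¹ = x⁻¹ → x = 1)
    {A Q : Subgroup Γ} (hA : Cfsg.IsElementaryAbelian 2 A) (hQ : (Nat.card Q).Coprime 2)
    (hAQ : A ≤ Subgroup.normalizer (Q : Set Γ))
    (hne : ¬ A ≤ Subgroup.centralizer (Q : Set Γ)) : Stage A := by
  haveI : Fact (Nat.Prime 2) := ⟨Nat.prime_two⟩
  haveI : IsMulCommutative A := hA.1
  have hA2 : IsPGroup 2 ↥A := fun v => ⟨1, Subtype.ext (by simpa using hA.2 v.1 v.2)⟩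
  obtain ⟨i, hi⟩ := hA2.exists_card_eq
  have hcop : (Nat.card A).Coprime (Nat.card Q) := by
    rw [hi]
    exact hQ.symm.pow_left i
  have hgen := Cfsg.Lib.Coprime.le_iSup_centralizer_cocyclic (A := A) Q hAQ hcop
  obtain ⟨B, hBA, a, ha, hBa, x, hx, hxa⟩ : ∃ B : Subgroup Γ, B ≤ A ∧ ∃ a ∈ A,
      B ⊔ Subgroup.zpowers a = A ∧ ∃ x ∈ Q ⊓ Subgroup.centralizer (B : Set Γ), a * x ≠ x * a := by
    by_contra hcon
    push Not at hcon
    refine hne ?_
    have hall : Q ≤ Subgroup.centralizer (A : Set Γ) := by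
      refine hgen.trans (iSup₂_le ?_)
      rintro B ⟨hBA, a, ha, hBa⟩
      intro x hx
      rw [Subgroup.mem_centralizer_iff]
      intro z hz
      have hz' : z ∈ B ⊔ Subgroup.zpowers a := by rw [hBa]; exact hz
      obtain ⟨b, hb, c, hc, rfl⟩ := mem_sup_elementary hA hBA ((Subgroup.zpowers_le).2 ha) hz'
      obtain ⟨k, rfl⟩ := Subgroup.mem_zpowers_iff.1 hc
      have hb' : Commute b x := Subgroup.mem_centralizer_iff.1 hx.2 b hb
      exact (hb'.mul_left ((show Commute a x from hcon B hBA a ha hBa x hx).zpow_left k)).eq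
    exact Subgroup.le_centralizer_iff.1 hall
  have hai : a⁻¹ = a := elementary_inv hA ha
  have haa : a * a = 1 := by rw [← pow_two]; exact hA.2 a ha
  obtain ⟨y, hy⟩ : ∃ y, y = (a * x * a)⁻¹ * x := ⟨_, rfl⟩
  have hyQ : y ∈ Q := by
    rw [hy]
    refine mul_mem (inv_mem ?_) hx.1
    have := (Subgroup.mem_normalizer_iff.1 (hAQ ha) x).1 hx.1
    rwa [hai] at this
  have hinv : a * y * a⁻¹ = y⁻¹ := by
    rw [hy, hai]
    simp only [mul_inv_rev, inv_inv, hai, mul_assoc]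
    rw [← mul_assoc a a, haa, one_mul]
  have hy1 : y ≠ 1 := by
    rw [hy, ne_eq, inv_mul_eq_one]
    intro e
    refine hxa ?_
    calc a * x = a * x * (a * a) := by rw [haa, mul_one]
      _ = (a * x * a) * a := by group
      _ = x * a := by rw [e]
  have hcB : ∀ b ∈ B, y * b = b * y := by
    intro b hb
    have h1 : Commute x b := (Subgroup.mem_centralizer_iff.1 hx.2 b hb).symm
    have h2 : Commute a b := elementary_comm hA ha (hBA hb)
    rw [hy]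
    exact ((((h2.mul_left h1).mul_left h2).inv_left).mul_left h1).eq
  obtain ⟨q, hq, hqd⟩ := Nat.exists_prime_and_dvd (show orderOf y ≠ 1 from fun h => hy1 (orderOf_eq_one_iff.1 h))
  have hyd : orderOf y ∣ Nat.card Q := by
    rw [← Subgroup.orderOf_mk y hyQ]; exact orderOf_dvd_natCard _
  have hq2 : q ≠ 2 := by
    rintro rfl
    exact Nat.not_coprime_of_dvd_of_dvd one_lt_two (hqd.trans hyd) dvd_rfl hQ
  refine stage_hyperplane h3 hA hBA ha ?_ hinv hq hq2 hqd hcB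
  exact (le_of_eq (by rw [hBa])).trans (card_sup_zpowers_le hA hBA ha)

end Main

end Cfsg.Lib.Local.TriBound
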