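import Cfsg.Agent.Lib.Local.TriBound.Stage

/-!
The step of the triangular system coming from a component, and its existence.
-/

set_option autoImplicit false

namespace Cfsg.Lib.Local.TriBound

open Cfsg.Lib.Core

variable {Γ : Type*} [Group Γ]

/-- The join of the translates of `E` by `T`. -/
def spanT (E T : Subgroup Γ) : Subgroup Γ :=
  ⨆ (s : Γ) (_ : s ∈ T), E.map (MulAut.conj s).toMonoidHom

/-- A diagonal embedding of `E` fixed by `T`. -/
structure Diag (A E T : Subgroup Γ) where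
  /-- the embedding -/
  φ : ↥E →* Γ
  mem_span : ∀ y, φ y ∈ spanT E T
  ker_le : ∀ y, φ y = 1 → y ∈ Subgroup.center ↥E
  fix : ∀ t ∈ T, ∀ y, t * φ y * t⁻¹ = φ y
  equiv : ∀ b ∈ A, ∀ y y' : ↥E, b * (y : Γ) * b⁻¹ = (y' : Γ) → φ y' = b * φ y * b⁻¹

theorem conj_mem_span {E T : Subgroup Γ} {t u : Γ} (ht : t ∈ T) (hu : u ∈ spanT E T) :
    t * u * t⁻¹ ∈ spanT E T := by
  have hle : (spanT E T).map (MulAut.conj t).toMonoidHom ≤ spanT E T := by
    rw [spanT, Subgroup.map_iSup]
    refine iSup_le fun s => ?_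
    rw [Subgroup.map_iSup]
    refine iSup_le fun hs => ?_
    rw [Subgroup.map_map]
    refine le_trans (le_of_eq ?_) (le_iSup₂ (f := fun (s : Γ) (_ : s ∈ T) =>
      E.map (MulAut.conj s).toMonoidHom) (t * s) (mul_mem ht hs))
    congr 1
    ext z
    simp [mul_assoc]
  exact hle ⟨u, hu, rfl⟩

theorem span_mono {E T T' : Subgroup Γ} (h : T ≤ T') : spanT E T ≤ spanT E T' :=
  iSup₂_le fun s hs => le_iSup₂ (f := fun (s : Γ) (_ : s ∈ T') =>
    E.map (MulAut.conj s).toMonoidHom) s (h hs)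

variable [Finite Γ]

/-- Translates by different cosets commute. -/
theorem span_commute {A E T : Subgroup Γ} (hA : Cfsg.IsElementaryAbelian 2 A) (hE : Cfsg.IsComponent E)
    (hT : T ≤ A) {t : Γ} (ht : t ∈ A) (hnot : ∀ s ∈ T, t * s ∉ Subgroup.normalizer (E : Set Γ))
    {u v : Γ} (hu : u ∈ spanT E T) (hv : v ∈ spanT E T) : u * (t * v * t⁻¹) = t * v * t⁻¹ * u := by
  have key : spanT E T ≤ Subgroup.centralizer ((spanT E T).map (MulAut.conj t).toMonoidHom : Set Γ) := by
    refine iSup₂_le fun s hs => Subgroup.le_centralizer_iff.1 ?_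
    rw [spanT, Subgroup.map_iSup]
    refine iSup_le fun s' => ?_
    rw [Subgroup.map_iSup]
    refine iSup_le fun hs' => ?_
    rw [Subgroup.map_map, ← Subgroup.commutator_eq_bot_iff_le_centralizer]
    have hco : (MulAut.conj t).toMonoidHom.comp (MulAut.conj s').toMonoidHom =
        (MulAut.conj (t * s')).toMonoidHom := by ext z; simp [mul_assoc]
    rw [hco]
    refine component_commute (IsComponent.map_conj hE _) (IsComponent.map_conj hE _) fun e => ?_
    have h1 : s⁻¹ * (t * s') ∈ Subgroup.normalizer (E : Set Γ) := by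
      rw [Subgroup.mem_normalizer_iff]
      intro z
      have hz : ∀ w, w ∈ E ↔ (t * s') * w * (t * s')⁻¹ ∈ E.map (MulAut.conj s).toMonoidHom := by
        intro w
        rw [← e, Subgroup.mem_map_equiv, MulAut.conj_symm_apply]
        rw [show (t * s')⁻¹ * ((t * s') * w * (t * s')⁻¹) * (t * s') = w by group]
      rw [hz z, Subgroup.mem_map_equiv, MulAut.conj_symm_apply]
      rw [show s⁻¹ * (t * s' * z * (t * s')⁻¹) * s = s⁻¹ * (t * s') * z * (s⁻¹ * (t * s'))⁻¹ by group]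
    refine hnot (s⁻¹ * s') (mul_mem (inv_mem hs) hs') ?_
    rw [← mul_assoc, elementary_comm hA ht (inv_mem (hT hs)), mul_assoc]
    exact h1
  exact (Subgroup.mem_centralizer_iff.1 (key hu) _ ⟨v, hv, rfl⟩).symm

theorem exists_diag {A E : Subgroup Γ} (hA : Cfsg.IsElementaryAbelian 2 A) (hE : Cfsg.IsComponent E)
    (T : Subgroup Γ) (hT : T ≤ A) (hd : ∀ t ∈ T, t ∈ Subgroup.normalizer (E : Set Γ) → t = 1) :
    Nonempty (Diag A E T) := by
  induction T using WellFoundedLT.induction with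
  | ind T ih =>
    by_cases hbot : T = ⊥
    · subst hbot
      refine ⟨⟨E.subtype, fun y => ?_, fun y hy => ?_, fun t ht y => ?_, fun b _ y y' h => h.symm⟩⟩
      · exact le_iSup₂ (f := fun (s : Γ) (_ : s ∈ (⊥ : Subgroup Γ)) =>
          E.map (MulAut.conj s).toMonoidHom) 1 (one_mem _) ⟨y, y.2, by simp⟩
      · rw [show y = 1 from Subtype.ext hy]
        exact one_mem _
      · rw [Subgroup.mem_bot] at ht
        subst ht
        simp
    obtain ⟨t, ht, ht1⟩ := (Subgroup.bot_or_exists_ne_one T).resolve_left hbot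
    obtain ⟨T', ⟨hT', htT'⟩, hmax⟩ := Set.Finite.exists_maximal
      (s := {T' : Subgroup Γ | T' ≤ T ∧ t ∉ T'}) (Set.toFinite _)
      ⟨⊥, bot_le, fun h => ht1 (Subgroup.mem_bot.1 h)⟩
    have hlt : T' < T := lt_of_le_of_ne hT' fun e => htT' (e ▸ ht)
    obtain ⟨D⟩ := ih T' hlt (hT'.trans hT) fun s hs => hd s (hT' hs)
    have htA : t ∈ A := hT ht
    have htt : t * t = 1 := by rw [← pow_two]; exact hA.2 t htA
    have hti : t⁻¹ = t := elementary_inv hA htA
    have hnot : ∀ s ∈ T', t * s ∉ Subgroup.normalizer (E : Set Γ) := by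
      intro s hs hmem
      have h1 := hd _ (mul_mem ht (hT' hs)) hmem
      refine htT' ?_
      rw [mul_eq_one_iff_eq_inv] at h1
      exact h1 ▸ inv_mem hs
    have hcomm : ∀ u v : ↥E, D.φ u * (t * D.φ v * t⁻¹) = t * D.φ v * t⁻¹ * D.φ u := fun u v =>
      span_commute hA hE (hT'.trans hT) htA hnot (D.mem_span u) (D.mem_span v)
    let ψ : ↥E →* Γ := MonoidHom.mk' (fun y => D.φ y * (t * D.φ y * t⁻¹)) fun u v => by
      calc D.φ (u * v) * (t * D.φ (u * v) * t⁻¹)
          = D.φ u * (D.φ v * (t * D.φ u * t⁻¹)) * (t * D.φ v * t⁻¹) := by rw [map_mul]; group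
        _ = D.φ u * ((t * D.φ u * t⁻¹) * D.φ v) * (t * D.φ v * t⁻¹) := by rw [hcomm]
        _ = _ := by group
    have hψt : ∀ y, t * ψ y * t⁻¹ = ψ y := by
      intro y
      show t * (D.φ y * (t * D.φ y * t⁻¹)) * t⁻¹ = D.φ y * (t * D.φ y * t⁻¹)
      calc t * (D.φ y * (t * D.φ y * t⁻¹)) * t⁻¹
          = (t * D.φ y * t⁻¹) * ((t * t) * D.φ y * (t * t)⁻¹) := by group
        _ = t * D.φ y * t⁻¹ * D.φ y := by rw [htt]; group
        _ = _ := (hcomm y y).symm
    refine ⟨⟨ψ, fun y => ?_, fun y hy => ?_, fun s hs y => ?_, fun b hb y y' h => ?_⟩⟩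
    · exact mul_mem (span_mono hT' (D.mem_span y)) (conj_mem_span ht (span_mono hT' (D.mem_span y)))
    · have hy' : D.φ y = (t * D.φ y * t⁻¹)⁻¹ := eq_inv_of_mul_eq_one_left hy
      refine mem_center_of_commutators hE.2.1 y fun w => D.ker_le _ ?_
      have h1 : Commute (D.φ w) (D.φ y) := by
        rw [hy']
        exact (show Commute (D.φ w) (t * D.φ y * t⁻¹) from hcomm w y).inv_right
      rw [map_mul, map_mul, map_mul, map_inv, map_inv, ← h1.eq, mul_inv_cancel_right, mul_inv_cancel]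
    · have hsin : s ∈ T' ⊔ Subgroup.zpowers t := by
        by_cases hsT' : s ∈ T'
        · exact Subgroup.mem_sup_left hsT'
        have hin : t ∈ T' ⊔ Subgroup.zpowers s := by
          by_contra hn
          exact hsT' ((hmax ⟨sup_le hT' ((Subgroup.zpowers_le).2 hs), hn⟩ le_sup_left)
            (Subgroup.mem_sup_right (Subgroup.mem_zpowers s)))
        obtain ⟨v, hv, c, hc, hvc⟩ := mem_sup_elementary hA (hT'.trans hT)
          ((Subgroup.zpowers_le).2 (hT hs)) hin
        obtain ⟨k, rfl⟩ := Subgroup.mem_zpowers_iff.1 hc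
        rcases Int.even_or_odd k with ⟨m, rfl⟩ | ⟨m, rfl⟩
        · exfalso
          refine htT' ?_
          rw [hvc, ← two_mul, zpow_mul, zpow_two, ← pow_two, hA.2 s (hT hs), one_zpow, mul_one]
          exact hv
        · rw [zpow_add, zpow_mul, zpow_two, ← pow_two, hA.2 s (hT hs), one_zpow, one_mul, zpow_one] at hvc
          have e : s = v⁻¹ * t := by rw [hvc, inv_mul_cancel_left]
          rw [e]
          exact Subgroup.mul_mem_sup (inv_mem hv) (Subgroup.mem_zpowers t)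
      obtain ⟨s', hs', c, hc, rfl⟩ := mem_sup_elementary hA (hT'.trans hT) ((Subgroup.zpowers_le).2 htA) hsin
      have h1 : ∀ y, s' * ψ y * s'⁻¹ = ψ y := by
        intro y
        show s' * (D.φ y * (t * D.φ y * t⁻¹)) * s'⁻¹ = D.φ y * (t * D.φ y * t⁻¹)
        have e : s' * t = t * s' := elementary_comm hA (hT (hT' hs')) htA
        calc s' * (D.φ y * (t * D.φ y * t⁻¹)) * s'⁻¹
            = (s' * D.φ y * s'⁻¹) * ((s' * t) * D.φ y * (s' * t)⁻¹) := by group
          _ = D.φ y * ((t * s') * D.φ y * (t * s')⁻¹) := by rw [D.fix s' hs', e]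
          _ = D.φ y * (t * (s' * D.φ y * s'⁻¹) * t⁻¹) := by group
          _ = D.φ y * (t * D.φ y * t⁻¹) := by rw [D.fix s' hs']
      obtain ⟨k, rfl⟩ := Subgroup.mem_zpowers_iff.1 hc
      have h2 : Commute (t ^ k) (ψ y) :=
        (show Commute t (ψ y) from mul_inv_eq_iff_eq_mul.1 (hψt y)).zpow_left k
      calc s' * t ^ k * ψ y * (s' * t ^ k)⁻¹ = s' * (t ^ k * ψ y) * (t ^ k)⁻¹ * s'⁻¹ := by group
        _ = s' * ψ y * s'⁻¹ := by rw [h2.eq]; group
        _ = ψ y := h1 y
    · show D.φ y' * (t * D.φ y' * t⁻¹) = b * (D.φ y * (t * D.φ y * t⁻¹)) * b⁻¹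
      rw [D.equiv b hb y y' h]
      have e : t * b = b * t := elementary_comm hA htA hb
      calc b * D.φ y * b⁻¹ * (t * (b * D.φ y * b⁻¹) * t⁻¹)
          = b * D.φ y * b⁻¹ * ((t * b) * D.φ y * (t * b)⁻¹) := by group
        _ = _ := by rw [e]; group

theorem exists_complement {A B : Subgroup Γ} (hA : Cfsg.IsElementaryAbelian 2 A) (hB : B ≤ A) :
    ∃ T : Subgroup Γ, T ≤ A ∧ T ⊓ B = ⊥ ∧ T ⊔ B = A := by
  obtain ⟨T, ⟨hT, hTB⟩, hmax⟩ := Set.Finite.exists_maximal
    (s := {T : Subgroup Γ | T ≤ A ∧ T ⊓ B = ⊥}) (Set.toFinite _) ⟨⊥, bot_le, bot_inf_eq B⟩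
  refine ⟨T, hT, hTB, le_antisymm (sup_le hT hB) fun a ha => ?_⟩
  by_contra hn
  have hd : (T ⊔ Subgroup.zpowers a) ⊓ B = ⊥ := by
    rw [eq_bot_iff]
    rintro z ⟨hz, hzB⟩
    obtain ⟨v, hv, c, hc, rfl⟩ := mem_sup_elementary hA hT ((Subgroup.zpowers_le).2 ha) hz
    obtain ⟨k, rfl⟩ := Subgroup.mem_zpowers_iff.1 hc
    rcases Int.even_or_odd k with ⟨m, rfl⟩ | ⟨m, rfl⟩
    · rw [← two_mul, zpow_mul, zpow_two, ← pow_two, hA.2 a ha, one_zpow, mul_one] at hzB ⊢
      exact hTB ▸ ⟨hv, hzB⟩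
    · rw [zpow_add, zpow_mul, zpow_two, ← pow_two, hA.2 a ha, one_zpow, one_mul, zpow_one] at hzB ⊢
      exfalso
      refine hn ?_
      have := Subgroup.mul_mem_sup (inv_mem hv) hzB
      rwa [inv_mul_cancel_left] at this
  exact hn (Subgroup.mem_sup_left ((hmax ⟨sup_le hT ((Subgroup.zpowers_le).2 ha), hd⟩ le_sup_left)
    (Subgroup.mem_sup_right (Subgroup.mem_zpowers a))))

theorem quotient_center_trivial {X : Type*} [Group X] (hX : Cfsg.IsQuasisimple X) :
    Subgroup.center (X ⧸ Subgroup.center X) = ⊥ := by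
  haveI := hX.2
  rcases (inferInstance : (Subgroup.center (X ⧸ Subgroup.center X)).Normal).eq_bot_or_eq_top with h | h
  · exact h
  exfalso
  haveI := hX.1
  have hf := hom_trivial_of_perfect hX.1 (QuotientGroup.mk' (Subgroup.center X)) fun a b => by
    have : (QuotientGroup.mk' (Subgroup.center X) b) ∈ Subgroup.center (X ⧸ Subgroup.center X) := by
      rw [h]; trivial
    exact Subgroup.mem_center_iff.1 this _
  obtain ⟨u, v, huv⟩ := exists_pair_ne (X ⧸ Subgroup.center X)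
  obtain ⟨u, rfl⟩ := QuotientGroup.mk_surjective u
  obtain ⟨v, rfl⟩ := QuotientGroup.mk_surjective v
  exact huv ((hf u).trans (hf v).symm)

variable (hO : Cfsg.pCore 2 Γ = ⊥)
variable (h3 : ∀ x a : Γ, x ^ 3 = 1 → a * a = 1 → a * x * a⁻¹ = x⁻¹ → x = 1)
include hO h3

set_option maxHeartbeats 1000000 in
/-- A normalised component moved by `A` gives a step. -/
theorem stage_component {A E : Subgroup Γ} (hA : Cfsg.IsElementaryAbelian 2 A)
    (hE : Cfsg.IsComponent E) (hG : Good (↥E ⧸ Subgroup.center ↥E))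
    (hne : ¬ A ≤ Subgroup.centralizer (E : Set Γ)) : Stage A := by
  classical
  haveI : Fact (Nat.Prime 2) := ⟨Nat.prime_two⟩
  set Z := Subgroup.center ↥E with hZ
  set π := QuotientGroup.mk' Z with hπ
  have hπs : Function.Surjective π := QuotientGroup.mk'_surjective Z
  have hπk : ∀ y, π y = 1 ↔ y ∈ Z := fun y => QuotientGroup.eq_one_iff y
  have hZodd : ∀ z ∈ Z, z ^ 2 = 1 → z = 1 := by
    intro z hz hz2
    by_contra hz1
    have hN : (Subgroup.zpowers z).Normal := ⟨fun n hn g => by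
      rw [Subgroup.mem_center_iff.1 ((Subgroup.zpowers_le).2 hz hn) g, mul_inv_cancel_right]
      exact hn⟩
    have hS : ((Subgroup.zpowers z).map E.subtype).IsSubnormal := hN.isSubnormal.trans' hE.1
    have hp : IsPGroup 2 ↥((Subgroup.zpowers z).map E.subtype) := by
      refine IsPGroup.of_card (n := 1) ?_
      rw [Subgroup.card_map_of_injective E.subtype_injective, Nat.card_zpowers,
        orderOf_eq_prime (p := 2) hz2 hz1, pow_one]
    have hmem : (z : Γ) ∈ Cfsg.pCore 2 Γ :=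
      le_pCore_of_isSubnormal hS hp ⟨z, Subgroup.mem_zpowers _, rfl⟩
    rw [hO, Subgroup.mem_bot] at hmem
    exact hz1 (Subtype.ext hmem)
  have hcP : Subgroup.center (↥E ⧸ Z) = ⊥ := quotient_center_trivial hE.2
  set B₀ : Subgroup Γ := A ⊓ Subgroup.normalizer (E : Set Γ) with hB₀
  obtain ⟨T, hTA, hTB, hTA'⟩ := exists_complement hA (inf_le_left : B₀ ≤ A)
  have hTd : ∀ t ∈ T, t ∈ Subgroup.normalizer (E : Set Γ) → t = 1 := fun t ht htn => by
    have : t ∈ T ⊓ B₀ := ⟨ht, hTA ht, htn⟩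
    rwa [hTB, Subgroup.mem_bot] at this
  obtain ⟨p, D, s, hp, hp2, hD, hs, hreal, hrank, hout⟩ := hG
  by_cases hC : B₀ ≤ Subgroup.centralizer (E : Set Γ)
  · -- the translates are moved
    have hT1 : T ≠ ⊥ := by
      rintro rfl
      rw [bot_sup_eq] at hTA'
      exact hne (hTA' ▸ hC)
    obtain ⟨t, ht, ht1⟩ := (Subgroup.bot_or_exists_ne_one T).resolve_left hT1
    obtain ⟨T', ⟨hT', htT'⟩, hmax⟩ := Set.Finite.exists_maximal
      (s := {T' : Subgroup Γ | T' ≤ T ∧ t ∉ T'}) (Set.toFinite _)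
      ⟨⊥, bot_le, fun h => ht1 (Subgroup.mem_bot.1 h)⟩
    obtain ⟨Dg⟩ := exists_diag hA hE T' (hT'.trans hTA) fun v hv => hTd v (hT' hv)
    have htA := hTA ht
    have htt : t * t = 1 := by rw [← pow_two]; exact hA.2 t htA
    have hti : t⁻¹ = t := elementary_inv hA htA
    have hnot : ∀ v ∈ T', t * v ∉ Subgroup.normalizer (E : Set Γ) := by
      intro v hv hmem
      have h1 := hTd _ (mul_mem ht (hT' hv)) hmem
      refine htT' ?_
      rw [mul_eq_one_iff_eq_inv] at h1
      exact h1 ▸ inv_mem hv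
    -- an element of odd prime order of the simple quotient
    obtain ⟨q, hq, hq2, hqd⟩ : ∃ q : ℕ, q.Prime ∧ q ≠ 2 ∧ q ∣ Nat.card (↥E ⧸ Z) := by
      by_contra hcon
      push Not at hcon
      have h2 : IsPGroup 2 (↥E ⧸ Z) := by
        refine IsPGroup.iff_card.2 ⟨(Nat.card (↥E ⧸ Z)).factorization 2, ?_⟩
        refine (Nat.eq_pow_of_factorization_eq_single Nat.card_pos.ne' ?_)
        ext r
        by_cases hr : r = 2
        · subst hr; simp
        · rw [Finsupp.single_eq_of_ne hr]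
          by_cases hrp : r.Prime
          · exact Nat.factorization_eq_zero_of_not_dvd (hcon r hrp hr)
          · exact Nat.factorization_eq_zero_of_not_prime _ hrp
      haveI := hE.2.2
      haveI : Nontrivial (↥E ⧸ Z) := inferInstance
      have h4 : Nontrivial ↥(Subgroup.center (↥E ⧸ Z)) := h2.center_nontrivial
      rw [Subgroup.nontrivial_iff_ne_bot] at h4
      exact h4 hcP
    haveI := Fact.mk hq
    obtain ⟨u, hu⟩ := exists_prime_orderOf_dvd_card' q hqd
    obtain ⟨y, rfl⟩ := hπs u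
    obtain ⟨x, hx⟩ : ∃ x, x = Dg.φ y * (t * (Dg.φ y)⁻¹ * t⁻¹) := ⟨_, rfl⟩
    have hcomm : ∀ v w : ↥E, Commute (Dg.φ v) (t * Dg.φ w * t⁻¹) := fun v w =>
      span_commute hA hE (hT'.trans hTA) htA hnot (Dg.mem_span v) (Dg.mem_span w)
    have hinv : t * x * t⁻¹ = x⁻¹ := by
      have e : t * x * t⁻¹ = (t * Dg.φ y * t⁻¹) * (t * t * (Dg.φ y)⁻¹ * (t * t)⁻¹) := by
        rw [hx]; group
      rw [e, htt, one_mul, inv_one, mul_one, hx, mul_inv_rev]
      group
    have hpowx : ∀ n : ℕ, x ^ n = Dg.φ (y ^ n) * (t * (Dg.φ (y ^ n))⁻¹ * t⁻¹) := by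
      intro n
      have hc' : Commute (Dg.φ y) (t * (Dg.φ y)⁻¹ * t⁻¹) := by
        rw [← map_inv]; exact hcomm y y⁻¹
      rw [hx, hc'.mul_pow, conj_pow, inv_pow, map_pow]
    have hdvd : q ∣ orderOf x := by
      have h1 := hpowx (orderOf x)
      rw [pow_orderOf_eq_one] at h1
      have h2 : Dg.φ (y ^ orderOf x) = t * Dg.φ (y ^ orderOf x) * t⁻¹ := by
        have h3' := eq_inv_of_mul_eq_one_left h1.symm
        calc Dg.φ (y ^ orderOf x) = (t * (Dg.φ (y ^ orderOf x))⁻¹ * t⁻¹)⁻¹ := h3'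
          _ = _ := by group
      have h3'' : y ^ orderOf x ∈ Z := by
        refine mem_center_of_commutators hE.2.1 _ fun w => Dg.ker_le _ ?_
        have h4 : Commute (Dg.φ w) (Dg.φ (y ^ orderOf x)) := by
          rw [h2]; exact hcomm w _
        rw [map_mul, map_mul, map_mul, map_inv, map_inv, ← h4.eq, mul_inv_cancel_right, mul_inv_cancel]
      rw [← hπk, map_pow] at h3''
      exact hu ▸ orderOf_dvd_of_pow_eq_one h3''
    refine stage_hyperplane h3 hA (B := T' ⊔ B₀) (sup_le (hT'.trans hTA) inf_le_left) htA ?_ hinv hq hq2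
      hdvd ?_
    · refine le_trans (Subgroup.card_le_of_le
        (show A ≤ (T' ⊔ B₀) ⊔ Subgroup.zpowers t from ?_))
        (card_sup_zpowers_le (A := A) (B := T' ⊔ B₀) hA (sup_le (hT'.trans hTA) inf_le_left) htA)
      rw [← hTA']
      refine sup_le (fun v hv => ?_) (le_sup_of_le_left le_sup_right)
      by_cases hvT' : v ∈ T'
      · exact Subgroup.mem_sup_left (Subgroup.mem_sup_left hvT')
      have hin : t ∈ T' ⊔ Subgroup.zpowers v := by
        by_contra hn
        exact hvT' ((hmax ⟨sup_le hT' ((Subgroup.zpowers_le).2 hv), hn⟩ le_sup_left)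
          (Subgroup.mem_sup_right (Subgroup.mem_zpowers v)))
      obtain ⟨w, hw, c, hc, hwc⟩ := mem_sup_elementary hA (hT'.trans hTA)
        ((Subgroup.zpowers_le).2 (hTA hv)) hin
      obtain ⟨k, rfl⟩ := Subgroup.mem_zpowers_iff.1 hc
      rcases Int.even_or_odd k with ⟨m, rfl⟩ | ⟨m, rfl⟩
      · exfalso
        refine htT' ?_
        rw [hwc, ← two_mul, zpow_mul, zpow_two, ← pow_two, hA.2 v (hTA hv), one_zpow, mul_one]
        exact hw
      · rw [zpow_add, zpow_mul, zpow_two, ← pow_two, hA.2 v (hTA hv), one_zpow, one_mul, zpow_one] at hwc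
        have e : v = w⁻¹ * t := by rw [hwc, inv_mul_cancel_left]
        rw [e]
        exact Subgroup.mul_mem_sup (inv_mem (Subgroup.mem_sup_left hw)) (Subgroup.mem_zpowers t)
    · intro b hb
      obtain ⟨v, hv, c, hc, rfl⟩ := mem_sup_elementary hA (hT'.trans hTA) inf_le_left hb
      have hcy : c * (y : Γ) * c⁻¹ = (y : Γ) := by
        rw [mul_inv_eq_iff_eq_mul]
        exact (Subgroup.mem_centralizer_iff.1 (hC hc) y y.2).symm
      have h1 : Commute (Dg.φ y) (v * c) := by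
        refine Commute.mul_right ?_ ?_
        · exact (mul_inv_eq_iff_eq_mul.1 (Dg.fix v hv y)).symm
        · exact (mul_inv_eq_iff_eq_mul.1 (Dg.equiv c hc.1 y y hcy).symm).symm
      have h2 : Commute t (v * c) := elementary_comm hA htA (mul_mem (hTA (hT' hv)) hc.1)
      rw [hx]
      exact (h1.mul_left ((h2.mul_left h1.inv_left).mul_left h2.inv_left)).eq
  · -- some element acts as an inner automorphism
    obtain ⟨Dg⟩ := exists_diag hA hE T hTA hTd
    have hnorm : ∀ b ∈ B₀, ∀ y : ↥E, b * (y : Γ) * b⁻¹ ∈ E := fun b hb y =>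
      (Subgroup.mem_normalizer_iff.1 hb.2 _).1 y.2
    let α : ↥B₀ → MulAut ↥E := fun b =>
      { toFun := fun y => ⟨(b : Γ) * y * (b : Γ)⁻¹, hnorm b b.2 y⟩
        invFun := fun y => ⟨(b : Γ) * y * (b : Γ)⁻¹, hnorm b b.2 y⟩
        left_inv := fun y => Subtype.ext (by
          have hb : (b : Γ) * b = 1 := by rw [← pow_two]; exact hA.2 _ b.2.1
          show (b : Γ) * ((b : Γ) * y * (b : Γ)⁻¹) * (b : Γ)⁻¹ = y
          rw [show (b : Γ) * ((b : Γ) * y * (b : Γ)⁻¹) * (b : Γ)⁻¹ =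
            ((b : Γ) * b) * y * ((b : Γ) * b)⁻¹ by group, hb]
          group)
        right_inv := fun y => Subtype.ext (by
          have hb : (b : Γ) * b = 1 := by rw [← pow_two]; exact hA.2 _ b.2.1
          show (b : Γ) * ((b : Γ) * y * (b : Γ)⁻¹) * (b : Γ)⁻¹ = y
          rw [show (b : Γ) * ((b : Γ) * y * (b : Γ)⁻¹) * (b : Γ)⁻¹ =
            ((b : Γ) * b) * y * ((b : Γ) * b)⁻¹ by group, hb]
          group)
        map_mul' := fun y z => Subtype.ext (by
          show (b : Γ) * ((y : Γ) * z) * (b : Γ)⁻¹ = (b : Γ) * y * (b : Γ)⁻¹ * ((b : Γ) * z * (b : Γ)⁻¹)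
          group) }
    have hαZ : ∀ b, Z.map (α b : ↥E →* ↥E) = Z := fun b =>
      Subgroup.characteristic_iff_map_eq.1 (inferInstance : (Subgroup.center ↥E).Characteristic) (α b)
    let β : ↥B₀ → MulAut (↥E ⧸ Z) := fun b => QuotientGroup.congr Z Z (α b) (hαZ b)
    have hβ : ∀ b y, β b (π y) = π (α b y) := fun b y => rfl
    have hβmul : ∀ b c, β (b * c) = β b * β c := by
      intro b c
      ext w
      obtain ⟨y, rfl⟩ := hπs w
      rw [MulAut.mul_apply, hβ, hβ, hβ]
      congr 1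
      apply Subtype.ext
      show ((b : Γ) * c) * y * ((b : Γ) * c)⁻¹ = (b : Γ) * ((c : Γ) * y * (c : Γ)⁻¹) * (b : Γ)⁻¹
      group
    have hinner : ∀ b, ∃ u, β b = MulAut.conj u := by
      intro b
      have hbb : b * b = 1 := Subtype.ext (by
        show (b : Γ) * b = 1
        rw [← pow_two]; exact hA.2 _ b.2.1)
      have h2 : β b * β b = 1 := by
        rw [← hβmul, hbb]
        ext w
        obtain ⟨y, rfl⟩ := hπs w
        rw [hβ, MulAut.one_apply]
        congr 1
        apply Subtype.ext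
        show (1 : Γ) * y * (1 : Γ)⁻¹ = y
        group
      refine (hout (β b) h2).resolve_right ?_
      rintro ⟨u, hu3, hu1, hβu⟩
      obtain ⟨y, rfl⟩ := hπs u
      rw [hβ] at hβu
      have hk : α b y * y ∈ Z := by rw [← hπk, map_mul, hβu, inv_mul_cancel]
      obtain ⟨w, hw⟩ : ∃ w, w = y * (α b y)⁻¹ := ⟨_, rfl⟩
      have hαα : α b (α b y) = y := Subtype.ext (by
        show (b : Γ) * ((b : Γ) * y * (b : Γ)⁻¹) * (b : Γ)⁻¹ = y
        rw [show (b : Γ) * ((b : Γ) * y * (b : Γ)⁻¹) * (b : Γ)⁻¹ =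
          ((b * b : ↥B₀) : Γ) * y * ((b * b : ↥B₀) : Γ)⁻¹ by push_cast; group, hbb]
        simp)
      have hαw : α b w = w⁻¹ := by
        rw [hw, map_mul, map_inv, hαα, mul_inv_rev, inv_inv]
      have hπw : π w = π y ^ 2 := by rw [hw, map_mul, map_inv, hβu, inv_inv, pow_two]
      have ho : orderOf (π y) = 3 := orderOf_eq_prime hu3 hu1
      have hd3 : 3 ∣ orderOf (w : Γ) := by
        rw [Subgroup.orderOf_coe]
        have h4 : orderOf (π w) ∣ orderOf w := orderOf_map_dvd π w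
        rwa [hπw, orderOf_pow' _ two_ne_zero, ho, show Nat.gcd 3 2 = 1 from rfl, Nat.div_one] at h4
      obtain ⟨n, hn, hninv⟩ := exists_pow_prime (a := (b : Γ))
        (show (b : Γ) * (w : Γ) * (b : Γ)⁻¹ = ((w : Γ))⁻¹ from congrArg Subtype.val hαw) hd3
      have := h3 _ (b : Γ) (by rw [← hn, pow_orderOf_eq_one]) (congrArg Subtype.val hbb) hninv
      rw [this, orderOf_one] at hn
      omega
    choose ψ0 hψ0 using hinner
    have hinj : Function.Injective (MulAut.conj : ↥E ⧸ Z →* MulAut (↥E ⧸ Z)) := by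
      rw [injective_iff_map_eq_one]
      intro u hu
      have : u ∈ Subgroup.center (↥E ⧸ Z) := Subgroup.mem_center_iff.2 fun w => by
        have := DFunLike.congr_fun hu w
        rw [MulAut.one_apply, MulAut.conj_apply, mul_inv_eq_iff_eq_mul] at this
        exact this.symm
      rwa [hcP, Subgroup.mem_bot] at this
    let ψ : ↥B₀ →* ↥E ⧸ Z := MonoidHom.mk' ψ0 fun b c => hinj (by rw [← hψ0, hβmul, hψ0, hψ0, map_mul])
    have hψ : ∀ b, β b = MulAut.conj (ψ b) := hψ0
    have hker : ∀ b : ↥B₀, ψ b = 1 → (b : Γ) ∈ A ⊓ Subgroup.centralizer (E : Set Γ) := by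
      intro b hb
      refine ⟨b.2.1, Subgroup.mem_centralizer_iff.2 fun y hy => ?_⟩
      have h1 : α b = 1 := aut_eq_of_eq_mod_center hE.2.1 _ _ fun w => by
        rw [MulAut.one_apply, ← hπk, map_mul, map_inv, ← hβ, hψ, hb, map_one, MulAut.one_apply,
          inv_mul_cancel]
      have h2 : (b : Γ) * y * (b : Γ)⁻¹ = y := congrArg Subtype.val (DFunLike.congr_fun h1 ⟨y, hy⟩)
      exact (mul_inv_eq_iff_eq_mul.1 h2).symm
    obtain ⟨b₀, hb₀, hb₀C⟩ := SetLike.not_le_iff_exists.1 hC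
    obtain ⟨b, rfl⟩ : ∃ b : ↥B₀, (b : Γ) = b₀ := ⟨⟨b₀, hb₀⟩, rfl⟩
    have hψb : ψ b ≠ 1 := fun e => hb₀C (hker b e).2
    have hbb : b * b = 1 := Subtype.ext (by
      show (b : Γ) * b = 1
      rw [← pow_two]; exact hA.2 _ b.2.1)
    have hψbb : ψ b * ψ b = 1 := by rw [← map_mul, hbb, map_one]
    obtain ⟨e, he, hee⟩ : ∃ e, π e = ψ b ∧ e * e = 1 := by
      obtain ⟨e, he⟩ := hπs (ψ b)
      have hz : e * e ∈ Z := by rw [← hπk, map_mul, he, hψbb]
      obtain ⟨k, hk⟩ | hodd := Nat.even_or_odd (orderOf (e * e))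
      · exfalso
        have hk0 : 0 < k := by have := orderOf_pos (e * e); omega
        have h1 : (e * e) ^ k = 1 := hZodd _ (pow_mem hz k) (by
          rw [← pow_mul, show k * 2 = orderOf (e * e) by omega, pow_orderOf_eq_one])
        have := Nat.le_of_dvd hk0 (orderOf_dvd_of_pow_eq_one h1)
        omega
      · obtain ⟨j, hj⟩ := hodd
        refine ⟨e ^ orderOf (e * e), ?_, ?_⟩
        · rw [map_pow, he, hj, pow_succ, pow_mul, pow_two, hψbb, one_pow, one_mul]
        · rw [← (Commute.refl e).mul_pow, pow_orderOf_eq_one]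
    obtain ⟨c, hc⟩ := hreal (ψ b) hψbb hψb
    obtain ⟨c, rfl⟩ := hπs c
    have hαe : ∀ w, α b w = e * w * e⁻¹ := by
      intro w
      have h1 : α b = MulAut.conj e := aut_eq_of_eq_mod_center hE.2.1 _ _ fun v => by
        rw [← hπk, map_mul, map_inv, ← hβ, hψ, MulAut.conj_apply, MulAut.conj_apply, map_mul, map_mul,
          map_inv, he, inv_mul_cancel]
      rw [h1, MulAut.conj_apply]
    obtain ⟨h, hh⟩ : ∃ h, h = e * (c⁻¹ * e * c) := ⟨_, rfl⟩
    have hei : e⁻¹ = e := inv_eq_of_mul_eq_one_right hee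
    have hαh : α b h = h⁻¹ := by
      rw [hαe, hh]
      simp only [mul_inv_rev, inv_inv, hei, ← mul_assoc, hee, one_mul]
    have hx : (b : Γ) * Dg.φ h * (b : Γ)⁻¹ = (Dg.φ h)⁻¹ := by
      rw [← map_inv, ← hαh]
      exact (Dg.equiv b b.2.1 h (α b h) rfl).symm
    have hdvd : p ∣ orderOf (Dg.φ h) := by
      refine (show p ∣ orderOf (π h) from ?_).trans ?_
      · rw [hh, map_mul, map_mul, map_mul, map_inv, he]; exact hc
      · refine orderOf_dvd_of_pow_eq_one ?_
        rw [← map_pow, hπk]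
        refine Dg.ker_le _ ?_
        rw [map_pow, pow_orderOf_eq_one]
    obtain ⟨n, hn, hninv⟩ := exists_pow_prime hx hdvd
    set C : Subgroup Γ := A ⊓ Subgroup.centralizer (E : Set Γ) with hCdef
    refine ⟨T ⊔ C, Dg.φ h ^ n, b, p, D, s, sup_le hTA inf_le_left, b.2.1, hp, hp2, hD, hs, ?_, hn, hninv, ?_⟩
    · -- orders
      have hQ : Cfsg.IsElementaryAbelian 2 ψ.range := by
        refine ⟨⟨⟨fun u v => Subtype.ext ?_⟩⟩, ?_⟩
        · obtain ⟨_, u, rfl⟩ := u
          obtain ⟨_, v, rfl⟩ := v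
          show ψ u * ψ v = ψ v * ψ u
          rw [← map_mul, ← map_mul, show u * v = v * u from Subtype.ext (elementary_comm hA u.2.1 v.2.1)]
        · rintro _ ⟨u, rfl⟩
          rw [← map_pow, show u ^ 2 = 1 from Subtype.ext (hA.2 _ u.2.1), map_one]
      have hB₀card : Nat.card ↥B₀ ≤ Nat.card C * s := by
        calc Nat.card ↥B₀ = Nat.card ψ.ker * Nat.card ψ.range := by
              rw [← Subgroup.index_ker, Subgroup.card_mul_index]
          _ ≤ Nat.card C * s := Nat.mul_le_mul (Nat.card_le_card_of_injective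
              (fun z : ψ.ker => (⟨((z : ↥B₀) : Γ), hker z.1 z.2⟩ : ↥C))
              (fun u v e => Subtype.ext (Subtype.ext (congrArg (fun z : ↥C => (z : Γ)) e)))) (hrank _ hQ)
      calc Nat.card A ≤ Nat.card T * Nat.card ↥B₀ := card_le_mul_of_forall fun z hz =>
            mem_sup_elementary hA hTA inf_le_left (hTA'.symm ▸ hz)
        _ ≤ Nat.card T * (Nat.card C * s) := Nat.mul_le_mul_left _ hB₀card
        _ ≤ Nat.card ↥(T ⊔ C) * s := by
            rw [← mul_assoc]
            refine Nat.mul_le_mul_right _ ?_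
            rw [← Nat.card_prod]
            refine Nat.card_le_card_of_injective (fun z : ↥T × ↥C =>
              (⟨z.1 * z.2, Subgroup.mul_mem_sup z.1.2 z.2.2⟩ : ↥(T ⊔ C))) ?_
            rintro ⟨u, v⟩ ⟨u', v'⟩ e
            have e' : (u : Γ) * v = u' * v' := congrArg Subtype.val e
            have h1 : (u' : Γ)⁻¹ * u ∈ T ⊓ B₀ := by
              refine Subgroup.mem_inf.2 ⟨mul_mem (inv_mem u'.2) u.2, Subgroup.mem_inf.2 ?_⟩
              have : (u' : Γ)⁻¹ * u = v' * (v : Γ)⁻¹ := by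
                rw [eq_mul_inv_iff_mul_eq, mul_assoc, e', inv_mul_cancel_left]
              rw [this]
              obtain ⟨hv1, hv2⟩ := Subgroup.mem_inf.1 (show (v : Γ) ∈ C from v.2)
              obtain ⟨hw1, hw2⟩ := Subgroup.mem_inf.1 (show (v' : Γ) ∈ C from v'.2)
              exact ⟨mul_mem hw1 (inv_mem hv1),
                Subgroup.centralizer_le_normalizer _ (mul_mem hw2 (inv_mem hv2))⟩
            rw [hTB, Subgroup.mem_bot, inv_mul_eq_one] at h1
            have hu : u = u' := Subtype.ext h1.symm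
            subst hu
            exact Prod.ext rfl (Subtype.ext (mul_left_cancel e'))
    · intro z hz
      obtain ⟨v, hv, w, hw, rfl⟩ := mem_sup_elementary hA hTA inf_le_left hz
      have h1 : Commute (Dg.φ h) (v * w) := by
        refine Commute.mul_right ?_ ?_
        · exact (mul_inv_eq_iff_eq_mul.1 (Dg.fix v hv h)).symm
        · have hwh : w * (h : Γ) * w⁻¹ = (h : Γ) := by
            rw [mul_inv_eq_iff_eq_mul]
            exact (Subgroup.mem_centralizer_iff.1 hw.2 h h.2).symm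
          exact (mul_inv_eq_iff_eq_mul.1 (Dg.equiv w hw.1 h h hwh).symm).symm
      exact (h1.pow_left n).eq

end Cfsg.Lib.Local.TriBound
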