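import Cfsg.Agent.Lib.Local.TriBound.Trick
import Cfsg.Agent.Lib.Local.TriBound.Component
import Cfsg.Agent.Lib.FusionSys.NormalizerModel
import Cfsg.Agent.Lib.Perm.WindowTypes

/-!
`|A|² |C_M(A)| ≤ |M|` for elementary abelian `2`-subgroups of a group of operators without sections `S₃`
all of whose components are good.
-/

set_option autoImplicit false

namespace Cfsg.Lib.Local.TriBound

open Cfsg.Lib.Core

theorem three_of_free {Γ : Type*} [Group Γ] [Finite Γ] (h : ¬ Cfsg.Involves (Equiv.Perm (Fin 3)) Γ) :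
    ∀ x a : Γ, x ^ 3 = 1 → a * a = 1 → a * x * a⁻¹ = x⁻¹ → x = 1 := by
  intro x a hx ha hinv
  by_contra hx1
  haveI : Fact (Nat.Prime 3) := ⟨Nat.prime_three⟩
  have ho : orderOf x = 3 := orderOf_eq_prime hx hx1
  have hm : a ∉ Subgroup.zpowers x := by
    intro hmem
    obtain ⟨k, hk⟩ := Subgroup.mem_zpowers_iff.1 hmem
    have e : a * x * a⁻¹ = x := by
      rw [← hk, ((Commute.refl x).zpow_left k).eq, mul_inv_cancel_right]
    rw [hinv] at e
    have h2 : x ^ 2 = 1 := by rw [pow_two]; exact inv_eq_iff_mul_eq_one.1 e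
    have : 3 ∣ 2 := ho ▸ orderOf_dvd_of_pow_eq_one h2
    omega
  obtain ⟨e⟩ := Cfsg.Lib.TwoGroup.equiv_dihedral ha hinv hm
  rw [ho] at e
  obtain ⟨e3⟩ := Cfsg.Lib.Perm.Window.dihedral_three_equiv
  exact h (Cfsg.Lib.FusionSys.involves_iff_exists_hom.2
    ⟨_, (e.trans e3).toMonoidHom, (e.trans e3).surjective⟩)

theorem exists_stage {Γ : Type*} [Group Γ] [Finite Γ] (hO : Cfsg.pCore 2 Γ = ⊥)
    (h3 : ∀ x a : Γ, x ^ 3 = 1 → a * a = 1 → a * x * a⁻¹ = x⁻¹ → x = 1)
    (hG : ∀ E : Subgroup Γ, Cfsg.IsComponent E → ¬ E ≤ Cfsg.pPrimeCore 2 Γ → Good (↥E ⧸ Subgroup.center ↥E))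
    (A : Subgroup Γ) (hA : Cfsg.IsElementaryAbelian 2 A) (hA1 : A ≠ ⊥) : Stage A := by
  haveI : Fact (Nat.Prime 2) := ⟨Nat.prime_two⟩
  by_cases hR : ¬ A ≤ Subgroup.centralizer (Cfsg.pPrimeCore 2 Γ : Set Γ)
  · refine stage_solvable h3 hA (pPrimeCore_coprime 2 Γ) ?_ hR
    exact Subgroup.normalizer_eq_top (H := Cfsg.pPrimeCore 2 Γ) ▸ le_top
  push Not at hR
  by_cases hL : ∃ E : Subgroup Γ, Cfsg.IsComponent E ∧ ¬ A ≤ Subgroup.centralizer (E : Set Γ)
  · obtain ⟨E, hE, hne⟩ := hL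
    exact stage_component hO h3 hA hE (hG E hE fun h => hne (hR.trans (Subgroup.centralizer_le h))) hne
  push Not at hL
  by_cases hF : ∃ p : Nat.Primes, ¬ A ≤ Subgroup.centralizer (Cfsg.pCore (p : ℕ) Γ : Set Γ)
  · exfalso
    obtain ⟨p, hp⟩ := hF
    haveI := Fact.mk p.2
    refine hp ?_
    by_cases e : (p : ℕ) = 2
    · rw [e, hO]
      intro a _
      rw [Subgroup.mem_centralizer_iff]
      intro h hh
      rw [SetLike.mem_coe, Subgroup.mem_bot] at hh
      subst hh
      simp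
    · refine hR.trans (Subgroup.centralizer_le ?_)
      obtain ⟨j, hj⟩ := (pCore_isPGroup (p : ℕ) Γ).exists_card_eq
      refine le_pPrimeCore' inferInstance ?_
      rw [hj]
      exact ((Nat.coprime_primes p.2 Nat.prime_two).2 e).pow_left j
  push Not at hF
  exfalso
  have h1 : A ≤ Subgroup.centralizer (Cfsg.generalizedFittingSubgroup Γ : Set Γ) := by
    refine Subgroup.le_centralizer_iff.1 ?_
    rw [Cfsg.generalizedFittingSubgroup, fittingSubgroup_eq_iSup_pCore, Cfsg.layer]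
    exact sup_le (sSup_le fun E hE => Subgroup.le_centralizer_iff.1 (hL E hE))
      (iSup_le fun p => Subgroup.le_centralizer_iff.1 (hF p))
  have h2 := h1.trans centralizer_generalizedFitting_le
  haveI : Fact (Nat.Prime 2) := ⟨Nat.prime_two⟩
  -- `A` lies in the centre of the generalized Fitting subgroup, hence in `O₂`
  obtain ⟨a, ha, ha1⟩ := (Subgroup.bot_or_exists_ne_one A).resolve_left hA1
  set F := Cfsg.generalizedFittingSubgroup Γ with hF'
  have hcen : ∀ y ∈ F, a * y = y * a := fun y hy => (Subgroup.mem_centralizer_iff.1 (h1 ha) y hy).symm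
  have hN : ((Subgroup.zpowers a).subgroupOf F).Normal := ⟨fun n hn g => by
    rw [Subgroup.mem_subgroupOf] at hn ⊢
    obtain ⟨k, hk⟩ := Subgroup.mem_zpowers_iff.1 hn
    have hc : Commute (a ^ k) (g : Γ) := (show Commute a g from hcen g g.2).zpow_left k
    rw [hk] at hc
    push_cast
    rw [← hc.eq, mul_inv_cancel_right]
    exact hn⟩
  have hS := hN.isSubnormal.trans' (Subgroup.Normal.isSubnormal
    (inferInstanceAs (Cfsg.generalizedFittingSubgroup Γ).Normal))
  rw [Subgroup.map_subgroupOf_eq_of_le ((Subgroup.zpowers_le).2 (h2 ha))] at hS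
  have hp : IsPGroup 2 ↥(Subgroup.zpowers a) := IsPGroup.of_card (n := 1)
    (by rw [Nat.card_zpowers, orderOf_eq_prime (hA.2 a ha) ha1, pow_one])
  have := le_pCore_of_isSubnormal hS hp (Subgroup.mem_zpowers a)
  rw [hO, Subgroup.mem_bot] at this
  exact ha1 this

theorem bound {L : Type*} [Group L] [Finite L] (M G : Subgroup L) (hM : Cfsg.IsElementaryAbelian 2 M)
    (hGM : G ≤ Subgroup.normalizer (M : Set L)) (hf : G ⊓ Subgroup.centralizer (M : Set L) = ⊥)
    (hO : Cfsg.pCore 2 ↥G = ⊥)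
    (h3 : ∀ x a : ↥G, x ^ 3 = 1 → a * a = 1 → a * x * a⁻¹ = x⁻¹ → x = 1)
    (hG : ∀ E : Subgroup ↥G, Cfsg.IsComponent E → ¬ E ≤ Cfsg.pPrimeCore 2 ↥G → Good (↥E ⧸ Subgroup.center ↥E)) :
    ∀ A : Subgroup L, A ≤ G → Cfsg.IsElementaryAbelian 2 A →
      Nat.card A ^ 2 * Nat.card ↥(M ⊓ Subgroup.centralizer (A : Set L)) ≤ Nat.card M := by
  haveI : Fact (Nat.Prime 2) := ⟨Nat.prime_two⟩
  intro A
  induction A using WellFoundedLT.induction with
  | ind A ih =>
    intro hAG hA
    by_cases hA1 : A = ⊥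
    · subst hA1
      rw [Subgroup.card_bot, one_pow, one_mul]
      exact Subgroup.card_le_of_le inf_le_left
    have hA' : Cfsg.IsElementaryAbelian 2 (A.subgroupOf G) := by
      refine ⟨⟨⟨fun u v => ?_⟩⟩, fun u hu => Subtype.ext (by simpa using hA.2 _ hu)⟩
      apply Subtype.ext
      apply Subtype.ext
      exact elementary_comm hA u.2 v.2
    have hA'1 : A.subgroupOf G ≠ ⊥ := by
      intro h
      refine hA1 ?_
      rw [← Subgroup.map_subgroupOf_eq_of_le hAG, h, Subgroup.map_bot]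
    obtain ⟨B, x, a, p, D, s, hB, ha, hp, hp2, hD, hs, hcard, hox, hinv, hxB⟩ :=
      exists_stage hO h3 hG _ hA' hA'1
    have haA : (a : L) ∈ A := ha
    set B' : Subgroup L := B.map G.subtype with hB'
    have hB'A : B' ≤ A := by
      rintro _ ⟨b, hb, rfl⟩
      exact hB hb
    have hox' : orderOf (x : L) = p := by rw [Subgroup.orderOf_coe, hox]
    have hinv' : (a : L) * x * (a : L)⁻¹ = (x : L)⁻¹ := by
      simpa using congrArg Subtype.val hinv
    have haa : (a : L) * a = 1 := by rw [← pow_two]; exact hA.2 _ haA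
    have hxB' : ∀ b ∈ B', (x : L) * b = b * x := by
      rintro _ ⟨b, hb, rfl⟩
      exact congrArg Subtype.val (hxB b hb)
    have hanot : (a : L) ∉ B' := by
      intro hmem
      have h1 := hxB' _ hmem
      rw [← h1, mul_inv_cancel_right] at hinv'
      have h2 : (x : L) ^ 2 = 1 := by rw [pow_two]; exact inv_eq_iff_mul_eq_one.1 hinv'.symm
      exact hp2 ((Nat.prime_dvd_prime_iff_eq hp Nat.prime_two).1 (hox' ▸ orderOf_dvd_of_pow_eq_one h2))
    have hlt : B' < A := lt_of_le_of_ne hB'A fun e => hanot (e ▸ haA)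
    have hB'el : Cfsg.IsElementaryAbelian 2 B' :=
      ⟨⟨⟨fun u v => Subtype.ext (elementary_comm hA (hB'A u.2) (hB'A v.2))⟩⟩, fun u hu => hA.2 u (hB'A hu)⟩
    have ihB := ih B' hlt (hB'A.trans hAG) hB'el
    set U : Subgroup L := M ⊓ Subgroup.centralizer (B' : Set L) with hU
    have hUel : Cfsg.IsElementaryAbelian 2 U :=
      ⟨⟨⟨fun u v => Subtype.ext (elementary_comm hM (Subgroup.mem_inf.1 u.2).1 (Subgroup.mem_inf.1 v.2).1)⟩⟩,
        fun u hu => hM.2 u (Subgroup.mem_inf.1 hu).1⟩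
    have hnU : ∀ g ∈ G, (∀ b ∈ B', g * b = b * g) → g ∈ Subgroup.normalizer (U : Set L) := by
      intro g hg hgb
      rw [Subgroup.mem_normalizer_iff]
      intro u
      rw [hU, Subgroup.mem_inf, Subgroup.mem_inf, ← Subgroup.mem_normalizer_iff.1 (hGM hg) u,
        Subgroup.mem_centralizer_iff, Subgroup.mem_centralizer_iff]
      refine and_congr_right fun _ => ⟨fun h b hb => ?_, fun h b hb => ?_⟩
      · have h1 : Commute b g := (hgb b hb).symm
        exact ((h1.mul_right (show Commute b u from h b hb)).mul_right h1.inv_right).eq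
      · have h1 : Commute b g := (hgb b hb).symm
        have h2 : Commute b (g * u * g⁻¹) := h b hb
        have h3' := (h1.inv_right.mul_right h2).mul_right h1
        rwa [show g⁻¹ * (g * u * g⁻¹) * g = u by group] at h3'
    have hodd : Odd (orderOf (x : L)) := hox' ▸ hp.odd_of_ne_two hp2
    have hne : ¬ ∀ u ∈ U, (x : L) * u = u * x := by
      intro hall
      have h1 := fix_of_fix_centralizer_set hM (hGM x.2) hodd B' hB'el
        ((hB'A.trans hAG).trans hGM) hxB'
        (fun u hu hb => hall u ⟨hu, Subgroup.mem_centralizer_iff.2 hb⟩)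
      have h2 : (x : L) ∈ G ⊓ Subgroup.centralizer (M : Set L) :=
        ⟨x.2, Subgroup.mem_centralizer_iff.2 fun u hu => (h1 u hu).symm⟩
      rw [hf, Subgroup.mem_bot] at h2
      rw [h2, orderOf_one] at hox'
      exact hp.one_lt.ne hox'
    have hidx := index_sq hUel hp hp2 hD hox' hinv' haa (hnU _ x.2 hxB')
      (hnU _ a.2 fun b hb => elementary_comm hA haA (hB'A hb)) hne
    obtain ⟨i, hi⟩ : ∃ i, (U ⊓ Subgroup.centralizer ({(a : L)} : Set L)).relIndex U = 2 ^ i := by
      obtain ⟨j, hj⟩ := (show IsPGroup 2 ↥U from fun v => ⟨1, Subtype.ext (by simpa using hUel.2 v.1 v.2)⟩).exists_card_eq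
      obtain ⟨i, -, hi⟩ := (Nat.dvd_prime_pow Nat.prime_two).1
        (hj ▸ Subgroup.relIndex_dvd_card (U ⊓ Subgroup.centralizer ({(a : L)} : Set L)) U)
      exact ⟨i, hi⟩
    rw [hi] at hidx
    have hs2 := hs i hidx
    set W := U ⊓ Subgroup.centralizer ({(a : L)} : Set L) with hW
    have hWU : Nat.card ↥W * 2 ^ i = Nat.card ↥U := by
      rw [← hi, ← Subgroup.relIndex_bot_left, ← Subgroup.relIndex_bot_left,
        Subgroup.relIndex_mul_relIndex ⊥ W U bot_le inf_le_left]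
    have hAW : Nat.card ↥(M ⊓ Subgroup.centralizer (A : Set L)) ≤ Nat.card ↥W := by
      refine Subgroup.card_le_of_le fun u hu => ?_
      obtain ⟨hu1, hu2⟩ := Subgroup.mem_inf.1 hu
      exact Subgroup.mem_inf.2 ⟨Subgroup.mem_inf.2 ⟨hu1, Subgroup.centralizer_le hB'A hu2⟩,
        Subgroup.mem_centralizer_singleton_iff.2 (Subgroup.mem_centralizer_iff.1 hu2 _ haA).symm⟩
    have hcA : Nat.card A ≤ Nat.card B' * s := by
      rw [hB', Subgroup.card_map_of_injective G.subtype_injective,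
        ← Nat.card_congr (Subgroup.subgroupOfEquivOfLe hAG).toEquiv]
      exact hcard
    calc Nat.card A ^ 2 * Nat.card ↥(M ⊓ Subgroup.centralizer (A : Set L))
        ≤ (Nat.card B' * s) ^ 2 * Nat.card ↥W := Nat.mul_le_mul (Nat.pow_le_pow_left hcA 2) hAW
      _ ≤ Nat.card B' ^ 2 * (Nat.card ↥W * 2 ^ i) := by
          rw [mul_pow, mul_assoc, mul_comm (Nat.card ↥W)]
          exact Nat.mul_le_mul_left _ (Nat.mul_le_mul_right _ hs2)
      _ ≤ Nat.card M := by rw [hWU]; exact ihB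

end Cfsg.Lib.Local.TriBound
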