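import Cfsg.Agent.Lib.Local.TriBound.Stage
import Cfsg.Agent.Lib.Local.ModuleBoundSz
import Cfsg.Agent.S2126
import Cfsg.Agent.S2904
import Cfsg.Agent.Lib.Linear.Suzuki.AutSylow
import Cfsg.Agent.Lib.Linear.AutPSL.Main
import Cfsg.Agent.Lib.Linear.AutPSL.Out
import Cfsg.Agent.Lib.Dickson.Involutions
import Cfsg.Agent.Lib.Linear.PSLSmall
import Cfsg.Agent.Lib.Recog.Icosahedral

/-!
`Sz(q)` and `PSL₂(3^n)`, `n` odd, are good.
-/

set_option autoImplicit false

namespace Cfsg.Lib.Local.TriBound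

open Matrix

theorem Good.of_equiv {P Q : Type*} [Group P] [Group Q] (e : P ≃* Q) (h : Good Q) : Good P := by
  obtain ⟨p, D, s, hp, hp2, hD, hs, hreal, hrank, hout⟩ := h
  refine ⟨p, D, s, hp, hp2, hD, hs, fun u hu hu1 => ?_, fun R hR => ?_, fun β hβ => ?_⟩
  · obtain ⟨c, hc⟩ := hreal (e u) (by rw [← map_mul, hu, map_one])
      (fun h => hu1 ((MulEquiv.map_eq_one_iff e).1 h))
    refine ⟨e.symm c, ?_⟩
    rw [← MulEquiv.orderOf_eq e]
    simpa using hc
  · refine le_trans (le_of_eq (Subgroup.card_map_of_injective (f := e.toMonoidHom) e.injective).symm)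
      (hrank _ ⟨?_, ?_⟩)
    · haveI := hR.1
      exact Subgroup.map_isMulCommutative R e.toMonoidHom
    · rintro _ ⟨r, hr, rfl⟩
      rw [← map_pow, hR.2 r hr, map_one]
  · let β' : MulAut Q := (e.symm.trans β).trans e
    have hβ' : β' * β' = 1 := by
      ext q
      show e (β (e.symm (e (β (e.symm q))))) = q
      rw [e.symm_apply_apply, show β (β (e.symm q)) = (β * β) (e.symm q) from rfl, hβ, MulAut.one_apply,
        e.apply_symm_apply]
    have he : ∀ x, β x = e.symm (β' (e x)) := fun x => by simp [β']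
    rcases hout β' hβ' with ⟨u, hu⟩ | ⟨u, hu3, hu1, hu⟩
    · refine Or.inl ⟨e.symm u, ?_⟩
      ext x
      rw [he, hu]
      simp
    · refine Or.inr ⟨e.symm u, by rw [← map_pow, hu3, map_one],
        fun h => hu1 ((MulEquiv.map_eq_one_iff e.symm).1 h), ?_⟩
      rw [he, e.apply_symm_apply, hu, map_inv]

theorem good_suzuki {F : Type} [Field F] [Fintype F] {m : ℕ} (hm : 1 ≤ m)
    (hF : Fintype.card F = 2 ^ (2 * m + 1)) : Good ↥(Cfsg.Lie.Sz F (2 ^ (m + 1))) := by
  classical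
  haveI : Fact (Nat.Prime 2) := ⟨Nat.prime_two⟩
  have h : Cfsg.Lib.Linear.Suz.Params F m := ⟨hm, hF⟩
  obtain ⟨eL, -⟩ := Cfsg.Lib.Linear.Suz.exists_lie_equiv h
  haveI : Finite ↥(Cfsg.Lie.Sz F (2 ^ (m + 1))) := Finite.of_equiv _ eL.toEquiv
  obtain ⟨r, hr, hrd, hprim⟩ := Cfsg.Agent.S2904.result 2 (4 * (2 * m + 1)) (by norm_num) (by omega)
    (fun h => by omega) (fun h => by omega)
  have hr2 : r ≠ 2 := by
    rintro rfl
    have h2 : 2 ∣ 2 ^ (4 * (2 * m + 1)) := dvd_pow_self 2 (by omega)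
    have hpos : 0 < 2 ^ (4 * (2 * m + 1)) := by positivity
    omega
  have hdvd : r ∣ (2 ^ (2 * m + 1)) ^ 2 + 1 := by
    have hfac : 2 ^ (4 * (2 * m + 1)) - 1 =
        ((2 ^ (2 * m + 1)) ^ 2 + 1) * (2 ^ (2 * (2 * m + 1)) - 1) := by
      rw [show 2 ^ (2 * (2 * m + 1)) = (2 ^ (2 * m + 1)) ^ 2 by rw [← pow_mul, mul_comm],
        ← Nat.sq_sub_sq, one_pow, ← pow_mul, ← pow_mul]
      congr 2
      ring
    exact (hr.dvd_mul.1 (hfac ▸ hrd)).resolve_right (hprim _ (by omega) (by omega))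
  refine ⟨r, 4 * (2 * m + 1), 2 ^ (2 * m + 1), hr, hr2, fun k hk hd => ?_, fun n hn => ?_,
    fun u hu hu1 => ?_, fun Q hQ => ?_, fun β hβ => Or.inl ?_⟩
  · by_contra hlt
    exact hprim k hk (by omega) hd
  · rw [← pow_mul, Nat.pow_le_pow_iff_right one_lt_two] at hn
    rw [← pow_mul]
    exact Nat.pow_le_pow_right two_pos (by omega)
  · obtain ⟨c, hc⟩ := Cfsg.Lib.Local.ModuleBound.sz_real h hr hdvd (eL.symm u)
      (by rw [← map_mul, hu, map_one]) (fun e => hu1 ((MulEquiv.map_eq_one_iff eL.symm).1 e))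
    refine ⟨eL c, ?_⟩
    rw [← MulEquiv.orderOf_eq eL.symm]
    simpa using hc
  · have hQp : IsPGroup 2 ↥Q := fun v => ⟨1, Subtype.ext (by simpa using hQ.2 v.1 v.2)⟩
    obtain ⟨P, hP⟩ := hQp.exists_le_sylow
    obtain ⟨C⟩ := Cfsg.Agent.SuzAut.exists_coord h P (MulEquiv.refl _)
    rw [← hF, ← Nat.card_eq_fintype_card]
    refine Nat.card_le_card_of_injective (fun q : ↥Q => C.snd ⟨q.1, hP q.2⟩) fun u v e => ?_
    have h0 : ∀ w : ↥Q, C.fst ⟨w.1, hP w.2⟩ = 0 := fun w =>
      (C.fst_zero_iff h _).2 (Subtype.ext (by simpa [pow_two] using hQ.2 w.1 w.2))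
    have e' : (⟨u.1, hP u.2⟩ : ↥(P : Subgroup ↥(Cfsg.Lie.Sz F (2 ^ (m + 1))))) = ⟨v.1, hP v.2⟩ := by
      rw [← C.eta ⟨u.1, hP u.2⟩, ← C.eta ⟨v.1, hP v.2⟩, h0 u, h0 v]
      exact congrArg _ (Prod.ext rfl e)
    exact Subtype.ext (congrArg Subtype.val e' :)
  · have hout := Cfsg.Agent.S2126.result hm hF
    haveI : Finite (Cfsg.Out ↥(Cfsg.Lie.Sz F (2 ^ (m + 1)))) := Nat.finite_of_card_ne_zero (by omega)
    set ω : Cfsg.Out ↥(Cfsg.Lie.Sz F (2 ^ (m + 1))) := QuotientGroup.mk' _ β with hω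
    have h2 : orderOf ω ∣ 2 := orderOf_dvd_of_pow_eq_one (by rw [hω, ← map_pow, pow_two, hβ, map_one])
    have h3 : orderOf ω ∣ 2 * m + 1 := hout ▸ orderOf_dvd_natCard ω
    have h4 : orderOf ω = 1 := by
      rcases (Nat.dvd_prime Nat.prime_two).1 h2 with h4 | h4
      · exact h4
      · rw [h4] at h3; omega
    obtain ⟨u, hu⟩ := (QuotientGroup.eq_one_iff β).1 (orderOf_eq_one_iff.1 h4)
    exact ⟨u, hu.symm⟩

section PSL

variable {F : Type} [Field F] [Fintype F]

local notation "SL2" => Matrix.SpecialLinearGroup (Fin 2) F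
local notation "PSL2" => Matrix.ProjectiveSpecialLinearGroup (Fin 2) F

/-- The prime used for `PSL₂(3^N)`, `N` odd. -/
theorem exists_prime_three_pow {n : ℕ} (hn : 1 ≤ n) :
    ∃ p : ℕ, p.Prime ∧ p ∣ 3 ^ (2 * n + 1) - 1 ∧ p ≠ 2 ∧ ∀ k, 0 < k → p ∣ 2 ^ k - 1 → 7 ≤ k := by
  have h4 : 3 ^ (2 * n + 1) % 4 = 3 := by
    rw [Nat.pow_mod, show (3 : ℕ) % 4 = 3 from rfl, pow_succ, pow_mul, Nat.mul_mod, Nat.pow_mod]
    norm_num
  have hbig : 27 ≤ 3 ^ (2 * n + 1) := le_trans (by norm_num) (Nat.pow_le_pow_right (by norm_num) (show 3 ≤ 2 * n + 1 by omega))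
  obtain ⟨p, hp, hpd⟩ := Nat.exists_prime_and_dvd (show (3 ^ (2 * n + 1) - 1) / 2 ≠ 1 by omega)
  have hpd' : p ∣ 3 ^ (2 * n + 1) - 1 := hpd.trans (Nat.div_dvd_of_dvd (by omega))
  have hp2 : p ≠ 2 := by
    rintro rfl
    omega
  have hpow : (3 : ZMod p) ^ (2 * n + 1) = 1 := by
    have h1 : ((3 ^ (2 * n + 1) - 1 : ℕ) : ZMod p) = 0 := (ZMod.natCast_eq_zero_iff _ _).2 hpd'
    rw [Nat.cast_sub (Nat.one_le_pow _ _ (by norm_num)), sub_eq_zero] at h1
    simpa using h1
  refine ⟨p, hp, hpd', hp2, fun k hk hd => ?_⟩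
  by_contra hlt
  have hp' : p = 3 ∨ p = 5 ∨ p = 7 ∨ p = 31 := by
    have hle : p ≤ 2 ^ k - 1 := Nat.le_of_dvd (by
      have : 2 ≤ 2 ^ k := Nat.le_self_pow (by omega) 2
      omega) hd
    have hk6 : k ≤ 6 := by omega
    interval_cases k <;> norm_num at hd hle <;> interval_cases p <;> first | omega | exact absurd hp (by norm_num) | norm_num at hd ⊢
  have key : ∀ d : ℕ, (3 : ZMod p) ^ d = 1 → (3 : ZMod p) ^ Nat.gcd d (2 * n + 1) = 1 := fun d hd' =>
    pow_gcd_eq_one.2 ⟨hd', hpow⟩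
  rcases hp' with rfl | rfl | rfl | rfl
  · obtain ⟨c, hc⟩ := hpd'
    have : 3 ∣ 3 ^ (2 * n + 1) := dvd_pow_self 3 (by omega)
    omega
  · have h1 := key 4 (by decide)
    have : Nat.gcd 4 (2 * n + 1) = 1 := by
      rw [show 4 = 2 ^ 2 from rfl]; exact Nat.Coprime.pow_left 2 (by simp)
    rw [this, pow_one] at h1
    exact absurd h1 (by decide)
  · have h1 := key 6 (by decide)
    have hg : Nat.gcd 6 (2 * n + 1) ∣ 3 := by
      have h6 : Nat.gcd 6 (2 * n + 1) ∣ 6 := Nat.gcd_dvd_left _ _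
      have ho : ¬ 2 ∣ Nat.gcd 6 (2 * n + 1) := fun h => by
        have := h.trans (Nat.gcd_dvd_right _ _); omega
      exact ((Nat.prime_two.coprime_iff_not_dvd.2 ho).symm).dvd_of_dvd_mul_left (show _ ∣ 2 * 3 from h6)
    obtain ⟨c, hc⟩ := hg
    have h3 : (3 : ZMod 7) ^ 3 = 1 := by rw [hc, pow_mul, h1, one_pow]
    exact absurd h3 (by decide)
  · have h1 := key 30 (by decide)
    have hg : Nat.gcd 30 (2 * n + 1) ∣ 15 := by
      have h6 : Nat.gcd 30 (2 * n + 1) ∣ 30 := Nat.gcd_dvd_left _ _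
      have ho : ¬ 2 ∣ Nat.gcd 30 (2 * n + 1) := fun h => by
        have := h.trans (Nat.gcd_dvd_right _ _); omega
      exact ((Nat.prime_two.coprime_iff_not_dvd.2 ho).symm).dvd_of_dvd_mul_left (show _ ∣ 2 * 15 from h6)
    obtain ⟨c, hc⟩ := hg
    have h3 : (3 : ZMod 31) ^ 15 = 1 := by rw [hc, pow_mul, h1, one_pow]
    exact absurd h3 (by decide)

theorem outer_inverts [CharP F 3] (g : GL (Fin 2) F) {c r : F} (hg : g.val * g.val = c • 1)
    (hr : r ^ 2 = c) (hns : ¬ ∃ a : F, g.val = a • 1) :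
    ∃ u : SL2, u ^ 3 = 1 ∧ u ∉ Subgroup.center SL2 ∧ Cfsg.Lib.Linear.AutPSL.cnjHom g u = u⁻¹ := by
  have h2 : (2 : F) ≠ 0 := by
    intro h
    have := (CharP.cast_eq_zero_iff F 3 2).1 (by exact_mod_cast h)
    omega
  set P : Matrix (Fin 2) (Fin 2) F := g.val + r • 1 with hP
  set Q : Matrix (Fin 2) (Fin 2) F := g.val - r • 1 with hQ
  have hQP : Q * P = 0 := by
    rw [hQ, hP, sub_mul, mul_add, mul_add, hg, ← hr]
    simp [Matrix.mul_smul, Matrix.smul_mul, smul_smul, pow_two]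
    abel
  have hgP : g.val * P = r • P := by
    rw [hP, mul_add, hg, ← hr]
    simp [smul_smul, smul_add, pow_two, add_comm]
  have hQg : Q * g.val = (-r) • Q := by
    rw [hQ, sub_mul, hg, ← hr]
    simp [smul_smul, smul_sub, pow_two]
    abel
  obtain ⟨i, i', hii⟩ : ∃ i i', P i i' ≠ 0 := by
    by_contra hcon
    push Not at hcon
    refine hns ⟨-r, ?_⟩
    have : P = 0 := Matrix.ext hcon
    rw [hP, add_eq_zero_iff_eq_neg] at this
    rw [this, neg_smul]
  obtain ⟨j, j', hjj⟩ : ∃ j j', Q j j' ≠ 0 := by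
    by_contra hcon
    push Not at hcon
    refine hns ⟨r, ?_⟩
    exact sub_eq_zero.1 (Matrix.ext hcon)
  set N : Matrix (Fin 2) (Fin 2) F := P * Matrix.single i' j 1 * Q with hN
  have hN2 : N * N = 0 := by
    rw [hN]
    calc P * Matrix.single i' j 1 * Q * (P * Matrix.single i' j 1 * Q)
        = P * Matrix.single i' j 1 * (Q * P) * (Matrix.single i' j 1 * Q) := by simp only [Matrix.mul_assoc]
      _ = 0 := by rw [hQP]; simp
  have hNv : N i j' = P i i' * Q j j' := by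
    rw [hN, Matrix.mul_apply, Finset.sum_eq_single j]
    · rw [Matrix.mul_apply, Finset.sum_eq_single i']
      · simp
      · intro k _ hk; simp [Matrix.single, hk.symm]
      · simp
    · intro k _ hk
      rw [Matrix.mul_apply, Finset.sum_eq_zero, zero_mul]
      intro l _
      simp [Matrix.single, hk.symm]
    · simp
  have hNne : N ≠ 0 := fun h => by
    rw [h] at hNv
    exact mul_ne_zero hii hjj hNv.symm
  have hdet : (1 + N).det = 1 := by
    have e := hN2
    have e00 := congrFun (congrFun e 0) 0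
    have e01 := congrFun (congrFun e 0) 1
    have e10 := congrFun (congrFun e 1) 0
    have e11 := congrFun (congrFun e 1) 1
    simp [Matrix.mul_apply, Fin.sum_univ_two] at e00 e01 e10 e11
    have ht : N 0 0 + N 1 1 = 0 := by
      by_contra ht
      have h01 : N 0 1 = 0 := (mul_eq_zero.1 (show N 0 1 * (N 0 0 + N 1 1) = 0 by linear_combination e01)).resolve_right ht
      have h10 : N 1 0 = 0 := (mul_eq_zero.1 (show N 1 0 * (N 0 0 + N 1 1) = 0 by linear_combination e10)).resolve_right ht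
      have h00 : N 0 0 = 0 := by simpa [h01] using e00
      have h11 : N 1 1 = 0 := by simpa [h01] using e11
      exact ht (by rw [h00, h11, add_zero])
    rw [Matrix.det_fin_two]
    simp
    linear_combination ht * (1 + N 0 0) - e00
  obtain ⟨u, hu⟩ : ∃ u : SL2, u.1 = 1 + N := ⟨⟨_, hdet⟩, rfl⟩
  have hui : (u⁻¹).1 = 1 - N := by
    refine left_inv_eq_right_inv (a := u.1) ?_ ?_
    · rw [← Matrix.SpecialLinearGroup.coe_mul, inv_mul_cancel, Matrix.SpecialLinearGroup.coe_one]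
    · rw [hu, add_mul, mul_sub, mul_sub, hN2]
      simp
  refine ⟨u, Subtype.ext ?_, fun hc => ?_, Subtype.ext ?_⟩
  · rw [Matrix.SpecialLinearGroup.coe_pow, hu, Matrix.SpecialLinearGroup.coe_one, pow_succ, pow_two,
      add_mul, one_mul, mul_add, mul_add, hN2]
    simp only [mul_one, add_mul, one_mul, hN2, add_zero, mul_add]
    have h3 : N + N + N = 0 := by
      ext a b
      have h30 : (3 : F) = 0 := by exact_mod_cast CharP.cast_eq_zero F 3
      simp only [Matrix.add_apply, Matrix.zero_apply]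
      linear_combination N a b * h30
    calc 1 + N + N + N = 1 + (N + N + N) := by abel
      _ = 1 := by rw [h3, add_zero]
  · obtain ⟨h01, h10, h11⟩ := Cfsg.Lib.Dickson.mem_center_sl hc
    rw [hu] at h01 h10 h11
    simp at h01 h10 h11
    have e00 := congrFun (congrFun hN2 0) 0
    simp [Matrix.mul_apply, Fin.sum_univ_two, h01] at e00
    refine hNne (Matrix.ext fun a b => ?_)
    fin_cases a <;> fin_cases b <;> simp [h01, h10, h11, e00]
  · rw [Cfsg.Lib.Linear.AutPSL.cnjHom_coe, hui, hu]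
    have hgN : g.val * N = r • N := by rw [hN, ← Matrix.mul_assoc, ← Matrix.mul_assoc, hgP]; simp
    have hNg : N * g.val = (-r) • N := by rw [hN, Matrix.mul_assoc, hQg]; simp
    have key : g.val * (1 + N) = (1 - N) * g.val := by
      rw [mul_add, mul_one, sub_mul, one_mul, hgN, hNg, neg_smul, sub_neg_eq_add]
    rw [key, Matrix.mul_assoc, Units.mul_inv, mul_one]

theorem good_psl_three {n : ℕ} (hn : 1 ≤ n) (hF : Fintype.card F = 3 ^ (2 * n + 1)) : Good PSL2 := by
  classical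
  haveI : Fact (Nat.Prime 2) := ⟨Nat.prime_two⟩
  haveI : Fact (Nat.Prime 3) := ⟨Nat.prime_three⟩
  haveI := Cfsg.Lib.Linear.AutPSL.charP_of_card (p := 3) (show 1 ≤ 2 * n + 1 by omega) hF
  obtain ⟨p, hp, hpd, hp2, hord⟩ := exists_prime_three_pow hn
  haveI := Fact.mk hp
  have hodd : Fintype.card F % 2 = 1 := by rw [hF, Nat.pow_mod]; norm_num
  have h34 : Fintype.card F % 4 = 3 := by
    rw [hF, Nat.pow_mod, pow_succ, pow_mul, Nat.mul_mod, Nat.pow_mod]; norm_num
  have h8 : Fintype.card F % 8 = 3 := by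
    rw [hF, pow_succ, pow_mul, Nat.mul_mod, Nat.pow_mod]; norm_num
  have h20 := Cfsg.Lib.Dickson.two_ne_zero_of_odd (F := F) hodd
  refine ⟨p, 7, 4, hp, hp2, hord, fun k hk => ?_, fun u hu hu1 => ?_, fun Q hQ => ?_, fun β hβ => ?_⟩
  · have h4 : 4 ≤ k := by
      by_contra h
      interval_cases k <;> norm_num at hk
    calc (4 : ℕ) ^ 2 = 2 ^ 4 := by norm_num
      _ ≤ 2 ^ k := Nat.pow_le_pow_right two_pos h4
  · have hpu : p ∣ Nat.card Fˣ := by rw [Nat.card_units, Nat.card_eq_fintype_card, hF]; exact hpd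
    obtain ⟨c, hc⟩ := exists_prime_orderOf_dvd_card' p hpu
    let t : SL2 := ⟨!![(c : F), 0; 0, ((c⁻¹ : Fˣ) : F)], by rw [Matrix.det_fin_two_of]; simp⟩
    let w : SL2 := Cfsg.Lib.Dickson.stdInvol F
    obtain ⟨g, hg⟩ := Cfsg.Lib.Dickson.exists_conj_stdInvol hodd (x := u) (by rw [pow_two]; exact hu) hu1
    have hwt : (w * (t⁻¹ * w * t) : SL2).1 = - (t * t : SL2).1 := by
      have hti : (t⁻¹ : SL2).1 = !![((c⁻¹ : Fˣ) : F), 0; 0, (c : F)] := by
        rw [Matrix.SpecialLinearGroup.coe_inv, Matrix.adjugate_fin_two_of]; simp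
      simp only [Matrix.SpecialLinearGroup.coe_mul, hti]
      ext i j
      fin_cases i <;> fin_cases j <;>
        simp [w, t, Cfsg.Lib.Dickson.stdInvol, Matrix.mul_apply, Fin.sum_univ_two]
    refine ⟨g * (t : PSL2) * g⁻¹, ?_⟩
    have e : u * ((g * (t : PSL2) * g⁻¹)⁻¹ * u * (g * (t : PSL2) * g⁻¹)) =
        MulAut.conj g ((w * (t⁻¹ * w * t) : SL2) : PSL2) := by
      have hu' : u = g * (w : PSL2) * g⁻¹ := by rw [← hg]; group
      rw [MulAut.conj_apply, hu']
      simp only [QuotientGroup.mk_mul, QuotientGroup.mk_inv]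
      group
    rw [e, MulEquiv.orderOf_eq]
    have hne : ((w * (t⁻¹ * w * t) : SL2) : PSL2) ^ orderOf ((w * (t⁻¹ * w * t) : SL2) : PSL2) = 1 :=
      pow_orderOf_eq_one _
    rw [← QuotientGroup.mk_pow, QuotientGroup.eq_one_iff] at hne
    obtain ⟨-, -, h11⟩ := Cfsg.Lib.Dickson.mem_center_sl hne
    have hpow : ∀ k : ℕ, ((w * (t⁻¹ * w * t)) ^ k : SL2).1 =
        !![(-1 : F) ^ k * (c : F) ^ (2 * k), 0; 0, (-1 : F) ^ k * ((c⁻¹ : Fˣ) : F) ^ (2 * k)] := by
      intro k
      induction k with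
      | zero => ext i j; fin_cases i <;> fin_cases j <;> simp
      | succ k ih =>
        rw [pow_succ, Matrix.SpecialLinearGroup.coe_mul, ih, hwt, Matrix.SpecialLinearGroup.coe_mul]
        ext i j
        fin_cases i <;> fin_cases j <;> simp [t, Matrix.mul_apply, Fin.sum_univ_two, pow_succ, mul_add] <;> ring
    rw [hpow] at h11
    generalize orderOf ((w * (t⁻¹ * w * t) : SL2) : PSL2) = N at h11 ⊢
    simp at h11
    have h4c : (c ^ (2 * N)) ^ 2 = 1 := by
      apply Units.ext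
      push_cast
      rw [← inv_pow] at h11
      rw [pow_two]
      nth_rewrite 1 [← h11]
      rw [← mul_pow, inv_mul_cancel₀ (Units.ne_zero c), one_pow]
    rw [← pow_mul] at h4c
    have hd4 := hc ▸ orderOf_dvd_of_pow_eq_one h4c
    rcases hp.dvd_mul.1 hd4 with h | h
    · rcases hp.dvd_mul.1 h with h | h
      · exact absurd ((Nat.prime_dvd_prime_iff_eq hp Nat.prime_two).1 h) hp2
      · exact h
    · exact absurd ((Nat.prime_dvd_prime_iff_eq hp Nat.prime_two).1 h) hp2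
  · have hQp : IsPGroup 2 ↥Q := fun v => ⟨1, Subtype.ext (by simpa using hQ.2 v.1 v.2)⟩
    obtain ⟨k, hk⟩ := hQp.exists_card_eq
    rw [hk]
    by_contra hlt
    have hk3 : 3 ≤ k := by
      by_contra h
      interval_cases k <;> norm_num at hlt
    have h8d : 8 ∣ Nat.card PSL2 :=
      (show (8 : ℕ) ∣ Nat.card Q from hk ▸ (pow_dvd_pow 2 hk3)).trans (Subgroup.card_subgroup_dvd_card Q)
    have hc := Cfsg.Lib.Linear.Two.card_PSL_two (F := F)
    have hg : Nat.gcd 2 (Fintype.card F - 1) = 2 := Nat.gcd_eq_left (by omega)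
    rw [hg] at hc
    obtain ⟨m, hm⟩ := h8d
    rw [hm] at hc
    have h16 : 16 ∣ Fintype.card F * (Fintype.card F ^ 2 - 1) := ⟨m, by rw [← hc]; ring⟩
    have hco : Nat.Coprime 16 (Fintype.card F) := by
      rw [show 16 = 2 ^ 4 from rfl]
      exact Nat.Coprime.pow_left 4 (Nat.prime_two.coprime_iff_not_dvd.2 (by omega))
    have h16' := hco.dvd_of_dvd_mul_left h16
    have hsq : Fintype.card F ^ 2 % 16 = 9 := by
      have h16m : Fintype.card F % 16 = 3 ∨ Fintype.card F % 16 = 11 := by omega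
      rw [Nat.pow_mod]
      rcases h16m with h | h <;> rw [h] <;> norm_num
    omega
  · obtain ⟨g, σ, hg⟩ := Cfsg.Lib.Linear.AutPSL.exists_decomp (p := 3) le_rfl β
    obtain ⟨g, rfl⟩ : ∃ g', β = Cfsg.Lib.Linear.AutPSL.innd g' * Cfsg.Lib.Linear.AutPSL.fld σ := by
      rcases hg with rfl | rfl
      · exact ⟨g, rfl⟩
      · obtain ⟨J, hJ⟩ := Cfsg.Lib.Linear.AutPSL.gr_eq_innd_two (F := F)
        exact ⟨g * GeneralLinearGroup.map σ.toRingHom J, by
          rw [hJ, map_mul, mul_assoc, mul_assoc, Cfsg.Lib.Linear.AutPSL.fld_mul_innd]⟩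
    have h1 : Cfsg.Lib.Linear.AutPSL.innd (g * GeneralLinearGroup.map σ.toRingHom g) *
        Cfsg.Lib.Linear.AutPSL.fld (σ * σ) = (1 : MulAut PSL2) := by
      rw [map_mul, map_mul, ← hβ]
      simp only [mul_assoc]
      rw [← mul_assoc (Cfsg.Lib.Linear.AutPSL.fld σ) (Cfsg.Lib.Linear.AutPSL.innd g),
        Cfsg.Lib.Linear.AutPSL.fld_mul_innd, mul_assoc]
    have h2 : σ * σ = 1 :=
      Cfsg.Lib.Linear.AutPSL.fld_eq_of_eq le_rfl (g' := 1) (σ' := 1)
        (h1.trans (by rw [map_one, map_one, one_mul]))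
    have hσ : σ = 1 := by
      obtain ⟨eσ⟩ := Cfsg.Lib.Linear.AutPSL.exists_galEquiv (p := 3) (show 1 ≤ 2 * n + 1 by omega) hF
      haveI : NeZero (2 * n + 1) := ⟨by omega⟩
      have hcard : Nat.card (F ≃+* F) = 2 * n + 1 := by
        rw [Nat.card_congr eσ.toEquiv]; simp
      haveI : Finite (F ≃+* F) := Nat.finite_of_card_ne_zero (by omega)
      have h2' : orderOf σ ∣ 2 := orderOf_dvd_of_pow_eq_one (by rw [pow_two]; exact h2)
      have h3' : orderOf σ ∣ 2 * n + 1 := hcard ▸ orderOf_dvd_natCard σ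
      rcases (Nat.dvd_prime Nat.prime_two).1 h2' with h4 | h4
      · exact orderOf_eq_one_iff.1 h4
      · rw [h4] at h3'; omega
    subst hσ
    rw [map_one, mul_one] at hβ ⊢
    rw [← map_mul] at hβ
    obtain ⟨c, hc⟩ := Cfsg.Lib.Linear.AutPSL.innd_eq_one hβ
    have hgg : g.val * g.val = c • 1 := by
      rw [← Units.val_mul, ← hc, Matrix.smul_one_eq_diagonal]; rfl
    by_cases hsq : IsSquare g.val.det
    · obtain ⟨d, hd⟩ := hsq
      have hd0 : d ≠ 0 := by
        rintro rfl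
        rw [mul_zero] at hd
        exact (Matrix.isUnit_iff_isUnit_det _).1 g.isUnit |>.ne_zero hd
      obtain ⟨s, hs⟩ : ∃ s : SL2, s.1 = d⁻¹ • g.val := ⟨⟨d⁻¹ • g.val, by
        rw [Matrix.det_smul, hd, Fintype.card_fin]; field_simp⟩, rfl⟩
      refine Or.inl ⟨(s : PSL2), ?_⟩
      rw [Cfsg.Lib.Linear.AutPSL.conj_mk]
      have hscal : Cfsg.Lib.Linear.AutPSL.innd ((SpecialLinearGroup.toGL s)⁻¹ * g) = (1 : MulAut PSL2) := by
        refine Cfsg.Lib.Linear.AutPSL.innd_scalar ⟨d, ?_⟩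
        have e : g.val = (SpecialLinearGroup.toGL s).val * (d • 1) := by
          show g.val = s.1 * (d • 1)
          rw [hs, Matrix.mul_smul, mul_one, smul_smul, mul_inv_cancel₀ hd0, one_smul]
        rw [Units.val_mul, e, ← Matrix.mul_assoc, Units.inv_mul, one_mul, Matrix.smul_one_eq_diagonal]
        rfl
      rwa [map_mul, map_inv, inv_mul_eq_one, eq_comm] at hscal
    · right
      have hns : ¬ ∃ a : F, g.val = a • 1 := by
        rintro ⟨a, ha⟩
        exact hsq ⟨a, by rw [ha, Matrix.det_smul, Matrix.det_one, Fintype.card_fin]; ring⟩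
      have htr : g.val 0 0 + g.val 1 1 = 0 := by
        by_contra ht
        have e01 := congrFun (congrFun hgg 0) 1
        have e10 := congrFun (congrFun hgg 1) 0
        have e00 := congrFun (congrFun hgg 0) 0
        have e11 := congrFun (congrFun hgg 1) 1
        simp [Matrix.mul_apply, Fin.sum_univ_two] at e01 e10 e00 e11
        have h01 : g.val 0 1 = 0 := (mul_eq_zero.1 (show g.val 0 1 * (g.val 0 0 + g.val 1 1) = 0 by linear_combination e01)).resolve_right ht
        have h10 : g.val 1 0 = 0 := (mul_eq_zero.1 (show g.val 1 0 * (g.val 0 0 + g.val 1 1) = 0 by linear_combination e10)).resolve_right ht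
        rw [h01, zero_mul, add_zero] at e00
        rw [h01, mul_zero, zero_add] at e11
        have hab : (g.val 0 0 - g.val 1 1) * (g.val 0 0 + g.val 1 1) = 0 := by linear_combination e00 - e11
        have hab' := sub_eq_zero.1 ((mul_eq_zero.1 hab).resolve_right ht)
        refine hns ⟨g.val 0 0, Matrix.ext fun a b => ?_⟩
        fin_cases a <;> fin_cases b <;> simp [h01, h10, hab']
      have hdet : g.val.det = -c := by
        have e00 := congrFun (congrFun hgg 0) 0
        simp [Matrix.mul_apply, Fin.sum_univ_two] at e00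
        rw [Matrix.det_fin_two]
        linear_combination g.val 0 0 * htr - e00
      obtain ⟨r, hr⟩ : IsSquare c := by
        by_contra hnc
        have hm1 : ¬ IsSquare (-1 : F) := fun h => by
          rw [FiniteField.isSquare_neg_one_iff] at h
          omega
        refine hsq ?_
        rw [hdet, show -c = -1 * c by ring]
        have hc0 : c ≠ 0 := by
          rintro rfl
          exact hnc ⟨0, by simp⟩
        have hch : ringChar F ≠ 2 := by
          rw [ringChar.eq F 3]; norm_num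
        rw [← quadraticChar_one_iff_isSquare (mul_ne_zero (neg_ne_zero.2 one_ne_zero) hc0), map_mul,
          quadraticChar_neg_one_iff_not_isSquare.2 hm1, quadraticChar_neg_one_iff_not_isSquare.2 hnc]
        rfl
      obtain ⟨u, hu3, huc, hu⟩ := outer_inverts g hgg (r := r) (by rw [hr, pow_two]) hns
      refine ⟨(u : PSL2), by rw [← QuotientGroup.mk_pow, hu3]; rfl, fun h => huc ((QuotientGroup.eq_one_iff u).1 h), ?_⟩
      rw [Cfsg.Lib.Linear.AutPSL.innd_mk, hu]
      rfl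

end PSL

end Cfsg.Lib.Local.TriBound
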