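import Cfsg.Agent.Lib.Local.TriBound.Bound
import Cfsg.Agent.Lib.Local.TriBound.Types
import Cfsg.Agent.Lib.Core.Cores
import Mathlib.GroupTheory.SemidirectProduct
import Mathlib.GroupTheory.FiniteAbelian.Duality
import Mathlib.Analysis.Complex.Polynomial.Basic
import Mathlib.RingTheory.RootsOfUnity.AlgebraicallyClosed

/-!
The bound `|A|² ≤ |[M, A]|`, from the bound `|A|² |C_M(A)| ≤ |M|` applied to the dual module; the
components of a group whose composition factors are Suzuki groups or `PSL₂(3^n)`, `n` odd, are good.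
-/

set_option autoImplicit false

universe u

open scoped commutatorElement

namespace Cfsg.Lib.Local.TriBound

open Cfsg.Lib.Core

theorem good_of_factors {Γ : Type u} [Group Γ] [Finite Γ]
    (hc : Cfsg.IsCompositionKGroupWith Cfsg.IsSuzukiOrPSL2OddPowerThree Γ) (E : Subgroup Γ)
    (hE : Cfsg.IsComponent E) : Good (↥E ⧸ Subgroup.center ↥E) := by
  classical
  have hsimp : IsSimpleGroup (↥E ⧸ Subgroup.center ↥E) := hE.2.2
  have hnab : ¬ IsMulCommutative (↥E ⧸ Subgroup.center ↥E) := by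
    intro h
    have h1 := hom_trivial_of_perfect hE.2.1 (QuotientGroup.mk' (Subgroup.center ↥E))
      fun a b => h.is_comm.comm _ _
    have : Subsingleton (↥E ⧸ Subgroup.center ↥E) := ⟨fun x y => by
      induction x using QuotientGroup.induction_on with
      | H a =>
        induction y using QuotientGroup.induction_on with
        | H b => exact (h1 a).trans (h1 b).symm⟩
    exact (not_subsingleton_iff_nontrivial.2 hsimp.toNontrivial) this
  rcases hc E hE.1 (Subgroup.center ↥E) hsimp hnab with hsz | ⟨F, iF, iFt, n, hF, ⟨e⟩⟩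
  · obtain ⟨F, iF, iFt, m, hm, hF, ⟨e⟩⟩ := hsz
    exact (good_suzuki hm hF).of_equiv e
  · rcases Nat.eq_zero_or_pos n with rfl | hn
    · exfalso
      have hc2 := Cfsg.Lib.Linear.Two.card_PSL_two (F := F)
      rw [hF, show Nat.gcd 2 (3 ^ (2 * 0 + 1) - 1) = 2 from rfl, ← Nat.card_congr e.toEquiv] at hc2
      have hlt : Nat.card (↥E ⧸ Subgroup.center ↥E) < 60 := by
        simp only [Nat.mul_zero, Nat.zero_add, pow_one] at hc2
        omega
      have := Cfsg.Lib.Recog.Icosa.solvable_of_lt_sixty _ _ rfl hlt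
      exact hnab ⟨⟨(IsSimpleGroup.comm_iff_isSolvable).2 this⟩⟩
    · exact (good_psl_three hn hF).of_equiv e

theorem good_of_equiv {Γ Δ : Type*} [Group Γ] [Group Δ] [Finite Γ] [Finite Δ] (e : Δ ≃* Γ)
    (hG : ∀ E : Subgroup Γ, Cfsg.IsComponent E → ¬ E ≤ Cfsg.pPrimeCore 2 Γ → Good (↥E ⧸ Subgroup.center ↥E))
    (E : Subgroup Δ) (hE : Cfsg.IsComponent E) (hEO : ¬ E ≤ Cfsg.pPrimeCore 2 Δ) :
    Good (↥E ⧸ Subgroup.center ↥E) := by
  have hE' := IsComponent.map_equiv hE e
  let f : ↥E ≃* ↥(E.map e.toMonoidHom) := E.equivMapOfInjective e.toMonoidHom e.injective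
  refine (hG _ hE' (by rwa [← map_pPrimeCore_equiv e, Subgroup.map_le_map_iff_of_injective e.injective])).of_equiv
    (QuotientGroup.congr _ _ f ?_)
  ext z
  rw [Subgroup.mem_map, Subgroup.mem_center_iff]
  constructor
  · rintro ⟨w, hw, rfl⟩ y
    obtain ⟨y', rfl⟩ := f.surjective y
    exact ((map_mul f y' w).symm.trans (congrArg f (Subgroup.mem_center_iff.1 hw y'))).trans (map_mul f w y')
  · intro h
    refine ⟨f.symm z, Subgroup.mem_center_iff.2 fun y => f.injective ?_, f.apply_symm_apply z⟩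
    rw [map_mul, map_mul, f.apply_symm_apply]
    exact h _

theorem bound_commutator {L : Type*} [Group L] [Finite L] (M G : Subgroup L)
    (hM : Cfsg.IsElementaryAbelian 2 M) (hGM : G ≤ Subgroup.normalizer (M : Set L))
    (hf : G ⊓ Subgroup.centralizer (M : Set L) = ⊥) (hO : Cfsg.pCore 2 ↥G = ⊥)
    (h3 : ∀ x a : ↥G, x ^ 3 = 1 → a * a = 1 → a * x * a⁻¹ = x⁻¹ → x = 1)
    (hG : ∀ E : Subgroup ↥G, Cfsg.IsComponent E → ¬ E ≤ Cfsg.pPrimeCore 2 ↥G → Good (↥E ⧸ Subgroup.center ↥E))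
    (A : Subgroup L) (hA : A ≤ G) (hAe : Cfsg.IsElementaryAbelian 2 A) :
    Nat.card A ^ 2 ≤ Nat.card ↥⁅M, A⁆ := by
  classical
  haveI := hM.1
  letI : CommGroup ↥M := { (inferInstance : Group ↥M) with mul_comm := fun a b => hM.1.is_comm.comm a b }
  have hmem : ∀ (g : ↥G) (m : ↥M), (g : L) * m * (g : L)⁻¹ ∈ M := fun g m =>
    (Subgroup.mem_normalizer_iff.1 (hGM g.2) m).1 m.2
  let c : ↥G → (↥M →* ↥M) := fun g => MonoidHom.mk' (fun m => ⟨_, hmem g m⟩)
    fun m m' => Subtype.ext (by push_cast; group)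
  have hc_coe : ∀ g m, ((c g m : ↥M) : L) = (g : L) * m * (g : L)⁻¹ := fun _ _ => rfl
  have hc_mul : ∀ g g' m, c (g * g') m = c g (c g' m) := fun g g' m =>
    Subtype.ext (by rw [hc_coe, hc_coe, hc_coe, Subgroup.coe_mul]; group)
  let act : ↥G →* MulAut (↥M →* ℂˣ) := MonoidHom.mk'
    (fun g =>
      { toFun := fun f => f.comp (c g⁻¹)
        invFun := fun f => f.comp (c g)
        left_inv := fun f => MonoidHom.ext fun m => by
          show f (c g⁻¹ (c g m)) = f m
          rw [← hc_mul, inv_mul_cancel]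
          congr 1
          exact Subtype.ext (by rw [hc_coe]; simp)
        right_inv := fun f => MonoidHom.ext fun m => by
          show f (c g (c g⁻¹ m)) = f m
          rw [← hc_mul, mul_inv_cancel]
          congr 1
          exact Subtype.ext (by rw [hc_coe]; simp)
        map_mul' := fun f f' => rfl })
    (fun g g' => MulEquiv.ext fun f => MonoidHom.ext fun m => by
      show f (c (g * g')⁻¹ m) = f (c g'⁻¹ (c g⁻¹ m))
      rw [mul_inv_rev, hc_mul])
  have hact : ∀ g f m, (act g f) m = f (c g⁻¹ m) := fun _ _ _ => rfl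
  have hcard : Nat.card (↥M →* ℂˣ) = Nat.card ↥M :=
    CommGroup.card_monoidHom_of_hasEnoughRootsOfUnity ↥M ℂ
  haveI : Finite (↥M →* ℂˣ) := Nat.finite_of_card_ne_zero (by rw [hcard]; exact Nat.card_pos.ne')
  haveI : Finite ((↥M →* ℂˣ) ⋊[act] ↥G) := Finite.of_equiv _ SemidirectProduct.equivProd.symm
  set inl : (↥M →* ℂˣ) →* (↥M →* ℂˣ) ⋊[act] ↥G := SemidirectProduct.inl with hinl
  set inr : ↥G →* (↥M →* ℂˣ) ⋊[act] ↥G := SemidirectProduct.inr with hinr
  have hsq : ∀ f : ↥M →* ℂˣ, f ^ 2 = 1 := fun f => MonoidHom.ext fun m => by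
    rw [MonoidHom.pow_apply, ← map_pow, MonoidHom.one_apply,
      show m ^ 2 = 1 from Subtype.ext (by simpa using hM.2 _ m.2), map_one]
  have hM' : Cfsg.IsElementaryAbelian 2 inl.range := by
    refine ⟨⟨⟨?_⟩⟩, ?_⟩
    · rintro ⟨_, f, rfl⟩ ⟨_, f', rfl⟩
      exact Subtype.ext (show inl f * inl f' = inl f' * inl f by rw [← map_mul, ← map_mul, mul_comm f f'])
    · rintro _ ⟨f, rfl⟩
      rw [← map_pow, hsq, map_one]
  have hGM' : inr.range ≤ Subgroup.normalizer (inl.range : Set ((↥M →* ℂˣ) ⋊[act] ↥G)) := by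
    haveI : inl.range.Normal := by rw [hinl, SemidirectProduct.range_inl_eq_ker_rightHom]; infer_instance
    exact Subgroup.normalizer_eq_top (H := inl.range) ▸ le_top
  have hf' : inr.range ⊓ Subgroup.centralizer (inl.range : Set ((↥M →* ℂˣ) ⋊[act] ↥G)) = ⊥ := by
    rw [eq_bot_iff]
    rintro _ ⟨⟨g, rfl⟩, hg⟩
    have hfix : ∀ f, act g f = f := fun f => by
      apply SemidirectProduct.inl_injective (φ := act)
      rw [SemidirectProduct.inl_aut]
      have h1 : inl f * inr g = inr g * inl f := Subgroup.mem_centralizer_iff.1 hg _ ⟨f, rfl⟩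
      show inr g * inl f * inr g⁻¹ = inl f
      rw [← h1, mul_assoc, ← map_mul, mul_inv_cancel, map_one, mul_one]
    have hg' : (g : L)⁻¹ ∈ G ⊓ Subgroup.centralizer (M : Set L) := by
      refine Subgroup.mem_inf.2 ⟨inv_mem g.2, Subgroup.mem_centralizer_iff.2 fun m hm => ?_⟩
      by_contra hne
      have hne' : c g⁻¹ ⟨m, hm⟩ * (⟨m, hm⟩ : ↥M)⁻¹ ≠ 1 := fun h => hne (by
        have h2 := congrArg Subtype.val (mul_inv_eq_one.1 h)
        rw [hc_coe] at h2
        simp only [Subgroup.coe_inv, inv_inv] at h2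
        calc m * (g : L)⁻¹ = (g : L)⁻¹ * m * g * (g : L)⁻¹ := by rw [h2]
          _ = (g : L)⁻¹ * m := by group)
      obtain ⟨f, hfne⟩ := CommGroup.exists_apply_ne_one_of_hasEnoughRootsOfUnity ↥M ℂ hne'
      refine hfne ?_
      rw [map_mul, map_inv, ← hact, hfix, mul_inv_cancel]
    rw [hf, Subgroup.mem_bot, inv_eq_one] at hg'
    rw [Subgroup.mem_bot, show g = 1 from Subtype.ext hg', map_one]
  let e : ↥G ≃* ↥inr.range := MonoidHom.ofInjective SemidirectProduct.inr_injective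
  have hO' : Cfsg.pCore 2 ↥inr.range = ⊥ := by rw [← map_pCore_equiv e, hO, Subgroup.map_bot]
  have h3' : ∀ x a : ↥inr.range, x ^ 3 = 1 → a * a = 1 → a * x * a⁻¹ = x⁻¹ → x = 1 := by
    intro x a hx ha hxa
    have := h3 (e.symm x) (e.symm a) (by rw [← map_pow, hx, map_one]) (by rw [← map_mul, ha, map_one])
      (by rw [← map_inv, ← map_mul, ← map_mul, hxa, map_inv])
    exact (MulEquiv.map_eq_one_iff e.symm).1 this
  set A' : Subgroup ((↥M →* ℂˣ) ⋊[act] ↥G) := (A.subgroupOf G).map inr with hA'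
  have hA'e : Cfsg.IsElementaryAbelian 2 A' := by
    refine ⟨⟨⟨?_⟩⟩, ?_⟩
    · rintro ⟨_, u, hu, rfl⟩ ⟨_, v, hv, rfl⟩
      apply Subtype.ext
      rw [Subgroup.coe_mul, Subgroup.coe_mul, ← map_mul, ← map_mul,
        show u * v = v * u from Subtype.ext (elementary_comm hAe hu hv)]
    · rintro _ ⟨u, hu, rfl⟩
      rw [← map_pow, show u ^ 2 = 1 from Subtype.ext (by simpa using hAe.2 _ hu), map_one]
  have key := bound inl.range inr.range hM' hGM' hf' hO' h3' (good_of_equiv e.symm hG) A'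
    (Subgroup.map_le_range _ _) hA'e
  have hcA : Nat.card A' = Nat.card A := by
    rw [hA', Subgroup.card_map_of_injective SemidirectProduct.inr_injective,
      Nat.card_congr (Subgroup.subgroupOfEquivOfLe hA).toEquiv]
  have hcM : Nat.card ↥inl.range = Nat.card ↥M := by
    rw [← hcard]
    exact Nat.card_congr (MonoidHom.ofInjective SemidirectProduct.inl_injective).toEquiv.symm
  set Y : Subgroup ↥M := (⁅M, A⁆).subgroupOf M with hY
  have hYle : ⁅M, A⁆ ≤ M := by
    rw [Subgroup.commutator_le]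
    intro m hm a ha
    rw [commutatorElement_def, mul_assoc, mul_assoc]
    refine mul_mem hm ?_
    rw [← mul_assoc]
    exact hmem ⟨a, hA ha⟩ ⟨m⁻¹, inv_mem hm⟩
  have hcY : Nat.card Y = Nat.card ↥⁅M, A⁆ := Nat.card_congr (Subgroup.subgroupOfEquivOfLe hYle).toEquiv
  have hann : Nat.card (↥M ⧸ Y) ≤ Nat.card ↥(inl.range ⊓ Subgroup.centralizer (A' : Set _)) := by
    rw [← CommGroup.card_monoidHom_of_hasEnoughRootsOfUnity (↥M ⧸ Y) ℂ]
    refine Nat.card_le_card_of_injective
      (fun f => ⟨inl (f.comp (QuotientGroup.mk' Y)), ⟨_, rfl⟩, ?_⟩) fun f f' h => ?_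
    · refine Subgroup.mem_centralizer_iff.2 ?_
      rintro _ ⟨u, hu, rfl⟩
      have hfix : act u (f.comp (QuotientGroup.mk' Y)) = f.comp (QuotientGroup.mk' Y) := by
        ext1 m
        rw [hact, MonoidHom.comp_apply, MonoidHom.comp_apply]
        congr 1
        refine (QuotientGroup.mk'_eq_mk' (N := Y)).2 ⟨(c u⁻¹ m)⁻¹ * m, ?_, by simp⟩
        rw [hY, Subgroup.mem_subgroupOf]
        have e : (((c u⁻¹ m)⁻¹ * m : ↥M) : L) = ((⁅(m : L)⁻¹, (u : L)⁻¹⁆))⁻¹ := by
          simp only [Subgroup.coe_mul, Subgroup.coe_inv, hc_coe, commutatorElement_def]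
          group
        rw [e]
        exact inv_mem (Subgroup.commutator_mem_commutator (inv_mem m.2) (inv_mem hu))
      have h1 := SemidirectProduct.inl_aut (φ := act) u (f.comp (QuotientGroup.mk' Y))
      rw [hfix] at h1
      conv_rhs => rw [show inl (f.comp (QuotientGroup.mk' Y)) =
        inr u * inl (f.comp (QuotientGroup.mk' Y)) * inr u⁻¹ from h1]
      rw [mul_assoc, ← map_mul, inv_mul_cancel, map_one, mul_one]
    · exact MonoidHom.cancel_right (QuotientGroup.mk'_surjective Y) |>.1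
        (SemidirectProduct.inl_injective (congrArg Subtype.val h :))
  rw [hcA, hcM] at key
  have hpos : 0 < Nat.card (↥M ⧸ Y) := Nat.card_pos
  have h2 : Nat.card A ^ 2 * Nat.card (↥M ⧸ Y) ≤ Nat.card (↥M ⧸ Y) * Nat.card Y := by
    rw [← Subgroup.card_eq_card_quotient_mul_card_subgroup]
    exact le_trans (Nat.mul_le_mul_left _ hann) key
  rw [mul_comm (Nat.card (↥M ⧸ Y)), hcY] at h2
  exact Nat.le_of_mul_le_mul_right h2 hpos

end Cfsg.Lib.Local.TriBound
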