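import Mathlib
import Cfsg.Prelude.Def_LocalEven
import Cfsg.Agent.Lib.Local.ModuleBound

/-!
Elementary facts about an element of odd order inverted by an involution, both acting on an
elementary abelian `2`-group.
-/

set_option autoImplicit false

namespace Cfsg.Lib.Local.TriBound

variable {L : Type*} [Group L] [Finite L]

/-- An element of odd order commuting with an involution `a` and fixing the fixed points of `a`
fixes everything. -/
theorem fix_of_fix_centralizer {U : Subgroup L} (hU : Cfsg.IsElementaryAbelian 2 U) {x a : L}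
    (hxU : x ∈ Subgroup.normalizer (U : Set L)) (haU : a ∈ Subgroup.normalizer (U : Set L))
    (ha : a * a = 1) (hxa : x * a = a * x) (hx : Odd (orderOf x))
    (h : ∀ u ∈ U, a * u = u * a → x * u = u * x) : ∀ u ∈ U, x * u = u * x := by
  intro u hu
  have hc : ∀ v ∈ U, ∀ w ∈ U, v * w = w * v := fun v hv w hw =>
    congrArg Subtype.val (hU.1.is_comm.comm ⟨v, hv⟩ ⟨w, hw⟩)
  have hs : ∀ v ∈ U, v * v = 1 := fun v hv => by rw [← pow_two]; exact hU.2 v hv
  have hai : a⁻¹ = a := inv_eq_of_mul_eq_one_right ha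
  have hconjA : ∀ v ∈ U, a * v * a ∈ U := fun v hv => by
    have := (Subgroup.mem_normalizer_iff.1 haU v).1 hv
    rwa [hai] at this
  have hconjX : ∀ v ∈ U, x * v * x⁻¹ ∈ U := fun v hv => (Subgroup.mem_normalizer_iff.1 hxU v).1 hv
  obtain ⟨d, hd⟩ : ∃ d, d = u * (a * u * a) := ⟨_, rfl⟩
  have hdU : d ∈ U := hd ▸ mul_mem hu (hconjA u hu)
  have haud : a * u * a = u * d := by rw [hd, ← mul_assoc, hs u hu, one_mul]
  have hada : a * d * a = d := by
    calc a * d * a = (a * u * a) * u * (a * a) := by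
          rw [hd]; simp only [mul_assoc]
      _ = u * (a * u * a) := by rw [ha, mul_one, hc _ (hconjA u hu) u hu]
      _ = d := hd.symm
  have hxd : x * d = d * x := h d hdU (by
    calc a * d = a * d * (a * a) := by rw [ha, mul_one]
      _ = (a * d * a) * a := by group
      _ = d * a := by rw [hada])
  obtain ⟨e, he⟩ : ∃ e, e = u * (x * u * x⁻¹) := ⟨_, rfl⟩
  have heU : e ∈ U := he ▸ mul_mem hu (hconjX u hu)
  have hux : x * u * x⁻¹ = u * e := by rw [he, ← mul_assoc, hs u hu, one_mul]
  have haea : a * e * a = e := by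
    have h1 : a * (x * u * x⁻¹) * a = (x * u * x⁻¹) * d := by
      calc a * (x * u * x⁻¹) * a = (a * x) * u * (x⁻¹ * a) := by group
        _ = (x * a) * u * (a * x⁻¹) := by
          rw [hxa, ((show Commute x a from hxa).inv_left).eq]
        _ = x * (a * u * a) * x⁻¹ := by group
        _ = (x * u * x⁻¹) * ((x * d) * x⁻¹) := by rw [haud]; group
        _ = (x * u * x⁻¹) * d := by rw [hxd]; group
    calc a * e * a = (a * u * a) * (a * (x * u * x⁻¹) * a) := by
          rw [he]
          calc a * (u * (x * u * x⁻¹)) * a = (a * u) * (a * a) * ((x * u * x⁻¹) * a) := by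
                rw [ha, mul_one]; group
            _ = a * u * a * (a * (x * u * x⁻¹) * a) := by group
      _ = u * d * ((x * u * x⁻¹) * d) := by rw [haud, h1]
      _ = u * ((x * u * x⁻¹) * d) * d := by
          rw [mul_assoc u d, hc d hdU _ (mul_mem (hconjX u hu) hdU), ← mul_assoc u]
      _ = e * (d * d) := by rw [he]; group
      _ = e := by rw [hs d hdU, mul_one]
  have hxe : x * e = e * x := h e heU (by
    calc a * e = a * e * (a * a) := by rw [ha, mul_one]
      _ = (a * e * a) * a := by group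
      _ = e * a := by rw [haea])
  have hpow : ∀ n : ℕ, x ^ n * u * (x ^ n)⁻¹ = u * e ^ n := by
    intro n
    induction n with
    | zero => simp
    | succ n ih =>
      have h1 : x * e ^ n * x⁻¹ = e ^ n := by
        rw [((show Commute x e from hxe).pow_right n).eq, mul_inv_cancel_right]
      calc x ^ (n + 1) * u * (x ^ (n + 1))⁻¹ = x * (x ^ n * u * (x ^ n)⁻¹) * x⁻¹ := by
            rw [pow_succ']; group
        _ = (x * u * x⁻¹) * (x * e ^ n * x⁻¹) := by rw [ih]; group
        _ = u * e ^ (n + 1) := by rw [h1, hux, pow_succ', mul_assoc]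
  obtain ⟨k, hk⟩ := hx
  have h1 := hpow (orderOf x)
  rw [pow_orderOf_eq_one, one_mul, inv_one, mul_one, hk, pow_succ, pow_mul, pow_two, hs e heU,
    one_pow, one_mul] at h1
  have he1 : e = 1 := mul_eq_left.1 h1.symm
  rw [he1, mul_one, mul_inv_eq_iff_eq_mul] at hux
  exact hux

/-- The same for a set of commuting involutions. -/
theorem fix_of_fix_centralizer_set {U : Subgroup L} (hU : Cfsg.IsElementaryAbelian 2 U) {x : L}
    (hxU : x ∈ Subgroup.normalizer (U : Set L)) (hx : Odd (orderOf x)) (B : Subgroup L)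
    (hB : Cfsg.IsElementaryAbelian 2 B) (hBU : B ≤ Subgroup.normalizer (U : Set L))
    (hxB : ∀ b ∈ B, x * b = b * x) (h : ∀ u ∈ U, (∀ b ∈ B, b * u = u * b) → x * u = u * x) :
    ∀ u ∈ U, x * u = u * x := by
  classical
  have hfin : (B : Set L).Finite := Set.toFinite _
  have key : ∀ s : Finset L, (∀ b ∈ s, b ∈ B) → ∀ U' : Subgroup L, Cfsg.IsElementaryAbelian 2 U' →
      x ∈ Subgroup.normalizer (U' : Set L) → B ≤ Subgroup.normalizer (U' : Set L) →
      (∀ u ∈ U', (∀ b ∈ s, b * u = u * b) → x * u = u * x) → ∀ u ∈ U', x * u = u * x := by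
    intro s
    induction s using Finset.induction with
    | empty => intro _ U' _ _ _ h u hu; exact h u hu (by simp)
    | insert a s _ ih =>
      intro hs U' hU' hxU' hBU' h
      have haB : a ∈ B := hs a (Finset.mem_insert_self _ _)
      have ha : a * a = 1 := by rw [← pow_two]; exact hB.2 a haB
      refine fix_of_fix_centralizer hU' hxU' (hBU' haB) ha (hxB a haB) hx ?_
      intro u hu hau
      set W : Subgroup L := U' ⊓ Subgroup.centralizer ({a} : Set L) with hW
      have hWel : Cfsg.IsElementaryAbelian 2 W := by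
        refine ⟨⟨⟨fun v w => Subtype.ext ?_⟩⟩, fun v hv => hU'.2 v hv.1⟩
        exact congrArg (fun z : ↥U' => (z : L)) (hU'.1.is_comm.comm ⟨v.1, v.2.1⟩ ⟨w.1, w.2.1⟩)
      have hnW : ∀ g ∈ Subgroup.normalizer (U' : Set L), g * a = a * g →
          g ∈ Subgroup.normalizer (W : Set L) := by
        intro g hg hga
        rw [Subgroup.mem_normalizer_iff]
        intro v
        have e1 : a = g * a * g⁻¹ := by rw [hga, mul_inv_cancel_right]
        constructor
        · rintro ⟨hv, hva⟩
          refine ⟨(Subgroup.mem_normalizer_iff.1 hg v).1 hv,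
            Subgroup.mem_centralizer_singleton_iff.2 ?_⟩
          have hva' := Subgroup.mem_centralizer_singleton_iff.1 hva
          calc g * v * g⁻¹ * a = g * v * g⁻¹ * (g * a * g⁻¹) := by rw [← e1]
            _ = g * (v * a) * g⁻¹ := by group
            _ = g * (a * v) * g⁻¹ := by rw [hva']
            _ = (g * a * g⁻¹) * (g * v * g⁻¹) := by group
            _ = a * (g * v * g⁻¹) := by rw [← e1]
        · rintro ⟨hv, hva⟩
          refine ⟨(Subgroup.mem_normalizer_iff.1 hg v).2 hv,
            Subgroup.mem_centralizer_singleton_iff.2 ?_⟩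
          have hva' := Subgroup.mem_centralizer_singleton_iff.1 hva
          calc v * a = g⁻¹ * ((g * v * g⁻¹) * (g * a * g⁻¹)) * g := by group
            _ = g⁻¹ * ((g * a * g⁻¹) * (g * v * g⁻¹)) * g := by rw [← e1, hva']
            _ = a * v := by group
      refine ih (fun b hb => hs b (Finset.mem_insert_of_mem hb)) W hWel (hnW x hxU' (hxB a haB))
        (fun b hb => hnW b (hBU' hb) (congrArg Subtype.val (hB.1.is_comm.comm ⟨b, hb⟩ ⟨a, haB⟩))) ?_ u
        ⟨hu, Subgroup.mem_centralizer_singleton_iff.2 hau.symm⟩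
      rintro v ⟨hv, hva⟩ hvs
      refine h v hv fun b hb => ?_
      rcases Finset.mem_insert.1 hb with rfl | hb
      · exact (Subgroup.mem_centralizer_singleton_iff.1 hva).symm
      · exact hvs b hb
  exact key hfin.toFinset (fun b hb => hfin.mem_toFinset.1 hb) U hU hxU hBU
    fun u hu hs => h u hu fun b hb => hs b (hfin.mem_toFinset.2 hb)

/-- The fixed points of an involution inverting an element of prime order `p` moving `U`. -/
theorem index_sq {U : Subgroup L} (hU : Cfsg.IsElementaryAbelian 2 U) {p D : ℕ} (hp : p.Prime)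
    (hp2 : p ≠ 2) (hD : ∀ k, 0 < k → p ∣ 2 ^ k - 1 → D ≤ k) {x a : L} (hx : orderOf x = p)
    (hinv : a * x * a⁻¹ = x⁻¹) (ha : a * a = 1)
    (hxU : x ∈ Subgroup.normalizer (U : Set L)) (haU : a ∈ Subgroup.normalizer (U : Set L))
    (hne : ¬ ∀ u ∈ U, x * u = u * x) :
    2 ^ D ≤ (U ⊓ Subgroup.centralizer ({a} : Set L)).relIndex U ^ 2 := by
  haveI : Fact (Nat.Prime 2) := ⟨Nat.prime_two⟩
  have hUp : IsPGroup 2 ↥U := fun v => ⟨1, Subtype.ext (by simpa using hU.2 v.1 v.2)⟩
  have hb := ModuleBound.index_bound U hUp (e := 0) (D := D) hp hp2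
    (fun k hk hd => hD k hk (by simpa using hd)) x (by simpa using hx) hxU (fun hmem => hne (by
      intro u hu
      rw [pow_zero, pow_one] at hmem
      exact (Subgroup.mem_centralizer_iff.1 hmem u hu).symm))
  set N := Subgroup.normalizer (U : Set L) with hN
  have hconj := ModuleBound.relIndex_conj U N le_rfl ⟨a, haU⟩ ⟨x, hxU⟩
  have hle : (U ⊓ Subgroup.centralizer ({a} : Set L)) ⊓
      (U ⊓ Subgroup.centralizer ({((⟨x, hxU⟩⁻¹ * ⟨a, haU⟩ * ⟨x, hxU⟩ : ↥N) : L)} : Set L)) ≤
      U ⊓ Subgroup.centralizer ({x} : Set L) := by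
    rintro v ⟨⟨hv, h1⟩, -, h2⟩
    refine ⟨hv, Subgroup.mem_centralizer_singleton_iff.2 ?_⟩
    have h1' : Commute v a := Subgroup.mem_centralizer_singleton_iff.1 h1
    have h2' : Commute v (x⁻¹ * a * x) := Subgroup.mem_centralizer_singleton_iff.1 h2
    have hai : a⁻¹ = a := inv_eq_of_mul_eq_one_right ha
    have e : a * x⁻¹ * a = x := by
      have := congrArg (·⁻¹) hinv
      simp only [mul_inv_rev, inv_inv] at this
      rw [← mul_assoc] at this
      rw [hai] at this
      exact this
    have h3 : Commute v (x * x) := by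
      have e2 : a * (x⁻¹ * a * x) = x * x := by
        rw [show a * (x⁻¹ * a * x) = (a * x⁻¹ * a) * x by group, e]
      exact e2 ▸ h1'.mul_right h2'
    obtain ⟨j, hj⟩ := hp.odd_of_ne_two hp2
    have e3 : (x * x) ^ (j + 1) = x := by
      rw [← pow_two, ← pow_mul, show 2 * (j + 1) = p + 1 by omega, pow_succ, ← hx, pow_orderOf_eq_one,
        one_mul]
    exact (e3 ▸ h3.pow_right (j + 1) : Commute v x).eq
  calc 2 ^ D ≤ (U ⊓ Subgroup.centralizer ({x} : Set L)).relIndex U := hb
    _ ≤ _ := Nat.le_of_dvd (Nat.pos_of_ne_zero Subgroup.index_ne_zero_of_finite)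
        (Subgroup.relIndex_dvd_of_le_left U hle)
    _ ≤ _ := Subgroup.relIndex_inf_le
    _ = _ := by rw [hconj, pow_two]

end Cfsg.Lib.Local.TriBound
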